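import Groth.Agent.H11LefFEt.Transfer
import Groth.Agent.H22Alg.ESZCM
import Groth.Agent.H10Coh.DualEmbed
import Groth.Agent.H16Derived.GTheory.Localization
import Groth.Agent.H17.FLI.DivExt
import Groth.Agent.H10Coh.Pn.Hyper
import Groth.Agent.H10Coh.HHSeq
import Groth.Agent.H11Blow.Vanish
import Groth.Agent.S8914
import Groth.Agent.S5195

/-!
# Maps into `O` and their reductions along an ample divisor

Sums of negative powers of the ample module see every coherent module; restriction to an open around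
the divisor changes neither `O` nor its quotients.
-/

set_option autoImplicit false
set_option linter.style.haveILetI false
set_option backward.isDefEq.respectTransparency false

universe u

open CategoryTheory CategoryTheory.Limits AlgebraicGeometry Opposite TopologicalSpace

namespace Groth.Agent.H3Lef

variable {X : Scheme.{u}} (J : X.IdealSheafData)



/-- Only the separation half. -/
def HomToFormalInjective (D : X.Modules) : Prop :=
  ∀ φ ψ : D ⟶ Coh.structureModule X,
    (∀ n : ℕ, φ ≫ ClSub.toSubscheme (J ^ (n + 1)) = ψ ≫ ClSub.toSubscheme (J ^ (n + 1))) → φ = ψ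

variable {J}

theorem injective_of_epi {E D : X.Modules} (p : E ⟶ D) [Epi p] (h : HomToFormalInjective J E) :
    HomToFormalInjective J D := fun φ ψ e => by
  rw [← cancel_epi p]
  exact h _ _ fun n => by rw [Category.assoc, e, Category.assoc]

/-- Bijectivity passes to a quotient with separated kernel. -/
theorem homToFormal_of_epi {E D : X.Modules} (p : E ⟶ D) [Epi p] (h : Lef.HomToFormalBijective J E)
    (hK : HomToFormalInjective J (kernel p)) : Lef.HomToFormalBijective J D := by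
  refine ⟨injective_of_epi p h.1, fun y hy => ?_⟩
  obtain ⟨φ₀, hφ₀⟩ := h.2 (fun n => p ≫ y n) fun n => by rw [Category.assoc, hy n]
  have h0 : kernel.ι p ≫ φ₀ = 0 := hK _ _ fun n => by
    rw [Category.assoc, hφ₀ n, ← Category.assoc, kernel.condition, zero_comp, zero_comp]
  refine ⟨Abelian.epiDesc p φ₀ h0, fun n => ?_⟩
  rw [← cancel_epi p, ← Category.assoc, Abelian.comp_epiDesc, hφ₀ n]

theorem homToFormal_sigma {ι : Type} [Finite ι] (D : ι → X.Modules)
    (h : ∀ i, Lef.HomToFormalBijective J (D i)) : Lef.HomToFormalBijective J (∐ D) := by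
  refine ⟨fun φ ψ e => Sigma.hom_ext _ _ fun i => (h i).1 _ _ fun n => ?_, fun y hy => ?_⟩
  · rw [Category.assoc, e, Category.assoc]
  · choose φ hφ using fun i => (h i).2 (fun n => Sigma.ι D i ≫ y n) fun n => by rw [Category.assoc, hy n]
    refine ⟨Sigma.desc φ, fun n => Sigma.hom_ext _ _ fun i => ?_⟩
    rw [← Category.assoc, Sigma.ι_desc, hφ]

/-- Bijectivity at every high level gives bijectivity in the limit. -/
theorem homToFormal_of_eventually (D : X.Modules) (m₀ : ℕ)
    (h : ∀ m, m₀ ≤ m → Function.Bijective fun φ : D ⟶ Coh.structureModule X =>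
      φ ≫ ClSub.toSubscheme (J ^ (m + 1))) : Lef.HomToFormalBijective J D := by
  refine ⟨fun φ ψ e => (h m₀ le_rfl).1 (e m₀), fun y hy => ?_⟩
  choose φ hφ using fun m (hm : m₀ ≤ m) => (h m hm).2 (y m)
  have hc : ∀ n, ∀ φ' : D ⟶ Coh.structureModule X, φ' ≫ ClSub.toSubscheme (J ^ (n + 1 + 1)) = y (n + 1) →
      φ' ≫ ClSub.toSubscheme (J ^ (n + 1)) = y n := fun n φ' e => by
    rw [← H11LefFEt.toSubscheme_quotMap (Lef.pow_succ_le J n), ← Category.assoc, e, hy n]
  have down : ∀ d n, ∀ φ' : D ⟶ Coh.structureModule X, φ' ≫ ClSub.toSubscheme (J ^ (n + d + 1)) = y (n + d) →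
      φ' ≫ ClSub.toSubscheme (J ^ (n + 1)) = y n := by
    intro d
    induction d with
    | zero => exact fun n φ' e => e
    | succ d ih => exact fun n φ' e => ih n φ' (hc (n + d) φ' e)
  refine ⟨φ m₀ le_rfl, fun n => ?_⟩
  have e1 : φ (m₀ + n) (Nat.le_add_right _ _) = φ m₀ le_rfl :=
    (h m₀ le_rfl).1 ((down n m₀ _ (hφ _ (Nat.le_add_right _ _))).trans (hφ m₀ le_rfl).symm)
  rw [← e1]
  have key : ∀ a, a = m₀ + n → φ (m₀ + n) (Nat.le_add_right _ _) ≫ ClSub.toSubscheme (J ^ (a + 1)) = y a := by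
    rintro a rfl
    exact hφ (m₀ + n) (Nat.le_add_right _ _)
  exact down m₀ n _ (key _ (Nat.add_comm n m₀))

/-- A morphism from the unit which is one on global sections. -/
theorem exists_secHom {M : X.Modules} (s : Γ(M, ⊤)) :
    ∃ φ : Coh.structureModule X ⟶ M, φ.app ⊤ (1 : Γ(X, ⊤)) = s :=
  ⟨H11LefFEt.secHom' M s, H11LefFEt.secHom'_one M s⟩

/-- Postcomposition on maps out of `O` is bijective when the two lowest cohomology groups of the kernel vanish. -/
theorem bijective_comp_of_vanish {S : ShortComplex X.Modules} (hS : S.ShortExact)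
    (h0 : Subsingleton (Coh.HH X S.X₁ 0)) (h1 : Subsingleton (Coh.HH X S.X₁ 1)) :
    Function.Bijective fun φ : Coh.structureModule X ⟶ S.X₂ => φ ≫ S.g := by
  have hg : Function.Bijective (LeadFF.Hm S.g 0) := by
    refine ⟨(injective_iff_map_eq_zero _).2 fun x hx => ?_, fun y => LeadFF.exists_Hm_g hS 0 y (h1.elim _ _)⟩
    obtain ⟨z, rfl⟩ := LeadFF.exists_Hm_f hS 0 x hx
    exact (congrArg _ (h0.elim z 0)).trans (map_zero _)
  have hgΓ : Function.Bijective (S.g.app ⊤) := by
    have e : ∀ x, S.g.app ⊤ (H10Coh.HH0Equiv S.X₂ x) = H10Coh.HH0Equiv S.X₃ (LeadFF.Hm S.g 0 x) :=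
      fun x => (H28NT.HH0Equiv_map S.g x).symm
    refine ⟨fun a b hab => ?_, fun c => ?_⟩
    · obtain ⟨a, rfl⟩ := (H10Coh.HH0Equiv S.X₂).surjective a
      obtain ⟨b, rfl⟩ := (H10Coh.HH0Equiv S.X₂).surjective b
      rw [e, e] at hab
      rw [hg.1 ((H10Coh.HH0Equiv S.X₃).injective hab)]
    · obtain ⟨c, rfl⟩ := (H10Coh.HH0Equiv S.X₃).surjective c
      obtain ⟨x, rfl⟩ := hg.2 c
      exact ⟨_, e x⟩
  refine ⟨fun φ ψ e => H05EGA4.LefConn.unit_hom_ext (hgΓ.1 ?_), fun χ => ?_⟩
  · exact H11LefFEt.hom_app_eq e ⊤ (1 : Γ(X, ⊤))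
  · obtain ⟨s, hs⟩ := hgΓ.2 (χ.app ⊤ (1 : Γ(X, ⊤)))
    obtain ⟨φ, hφ⟩ := exists_secHom s
    exact ⟨φ, H05EGA4.LefConn.unit_hom_ext ((congrArg (S.g.app ⊤) hφ).trans hs)⟩

/-- Maps out of the dual of a module `P` are maps out of `O` after twisting by `P`. -/
theorem bijective_comp_of_twist {N P : X.Modules} (c : CohB1.tensorMod N P ≅ Coh.structureModule X)
    {A B : X.Modules} (g : A ⟶ B)
    (h : Function.Bijective fun φ : Coh.structureModule X ⟶ ((DCoh.tensorBi (X := X)).flip.obj P).obj A =>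
      φ ≫ ((DCoh.tensorBi (X := X)).flip.obj P).map g) :
    Function.Bijective fun φ : N ⟶ A => φ ≫ g := by
  let T := (DCoh.tensorBi (X := X)).flip.obj P
  haveI : T.IsEquivalence := H17.FLI.DivExt.isEquivalence_flip (H11Ample.tensorCommIso P N ≪≫ c)
  let cT : T.obj N ≅ Coh.structureModule X := c
  refine ⟨fun φ ψ e => T.map_injective ((cancel_epi cT.inv).1 (h.1 ?_)), fun χ => ?_⟩
  · show (cT.inv ≫ T.map φ) ≫ T.map g = (cT.inv ≫ T.map ψ) ≫ T.map g
    rw [Category.assoc, ← T.map_comp, show φ ≫ g = ψ ≫ g from e, T.map_comp, Category.assoc]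
  · obtain ⟨θ, hθ⟩ := h.2 (cT.inv ≫ T.map χ)
    obtain ⟨φ, hφ⟩ := T.map_surjective (cT.hom ≫ θ)
    refine ⟨φ, T.map_injective ?_⟩
    rw [T.map_comp, hφ, Category.assoc, show θ ≫ T.map g = cT.inv ≫ T.map χ from hθ, Iso.hom_inv_id_assoc]

section Ample

variable (k : Type u) [Field k] [X.Over (Spec (CommRingCat.of k))] [IsProper (X ↘ Spec (CommRingCat.of k))]
variable {L : X.Modules} (hL : ClSub.IsInverseOf L (ClSub.idealMod J)) (hamp : CohB1.IsAmple L)
variable (hdepth : ∀ x : X, IsClosed ({x} : Set X) → (2 : ℕ∞) ≤ LocCoh.depth (X.presheaf.stalk x) (X.presheaf.stalk x))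

include k hL hamp hdepth in
theorem homToFormal_dual_pow (q : ℕ) :
    Lef.HomToFormalBijective J (RefHull.dual (CohB1.tensorPow L q)) := by
  haveI : IsLocallyNoetherian X := LocallyOfFiniteType.isLocallyNoetherian (X ↘ Spec (CommRingCat.of k))
  obtain ⟨e⟩ := hL
  let P := CohB1.tensorPow L q
  have hP : PicF.IsInvertible P := H11Ample.isInvertible_tensorPow hamp.1 q
  obtain ⟨c⟩ := H25AbCube.isInverseOf_dual hP
  have hinv : PicF.IsInvertible (ClSub.idealMod J) := H17.InvertibleTensor.isInvertible_of_tensor_iso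
    (ClSub.idealMod J) L (H10Coh.Tw.commIso _ _ ≪≫ e)
  have hC := (S8914.result J).1 hinv
  have hPcoh : Coh.IsCoh P :=
    H16Derived.KFlat.Stalk.isCoh_of_isFinLocFree (H23Para.isFinLocFree_of_isInvertible hP)
  obtain ⟨m₀, hm⟩ := H22Alg.ESZ.exists_bound_ample k hamp ⟨e⟩ hPcoh 1 fun x hx => by
    refine lt_of_lt_of_le ?_ (H22Alg.ESZCM.depth_le_finLocFree (H23Para.isFinLocFree_of_isInvertible hP) x)
    exact lt_of_lt_of_le (by norm_num) (hdepth x hx)
  refine homToFormal_of_eventually _ m₀ fun m hm₀ => ?_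
  let cN : CohB1.tensorMod (RefHull.dual P) P ≅ Coh.structureModule X := c
  refine bijective_comp_of_twist cN (ClSub.toSubscheme (J ^ (m + 1))) ?_
  let T := (DCoh.tensorBi (X := X)).flip.obj P
  haveI : T.IsEquivalence := H17.FLI.DivExt.isEquivalence_flip (H11Ample.tensorCommIso _ _ ≪≫ cN)
  have hS := (H10Coh.Hyper.idealSeq_shortExact (J ^ (m + 1))).map_of_exact T
  obtain ⟨-, ⟨eI⟩⟩ := H11Blow.idealMod_pow hC (m + 1)
  have hv : ∀ i ≤ 1, Subsingleton (Coh.HH X (T.obj (ClSub.idealMod (J ^ (m + 1)))) i) := fun i hi => by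
    refine H22Alg.ESZ.subsingleton_HH_iso ?_ (hm (m + 1) (by omega) i hi)
    exact H11Ample.tensorCommIso _ _ ≪≫ H10Inj.SheafExt.tensorModIso eI.symm (Iso.refl P)
  exact bijective_comp_of_vanish hS (hv 0 (by norm_num)) (hv 1 le_rfl)

include k hL hamp hdepth in
theorem homToFormal_of_isCoh {D : X.Modules} (hD : Coh.IsCoh D) : Lef.HomToFormalBijective J D := by
  haveI : IsLocallyNoetherian X := LocallyOfFiniteType.isLocallyNoetherian (X ↘ Spec (CommRingCat.of k))
  haveI : CompactSpace X := QuasiCompact.compactSpace_of_compactSpace (X ↘ Spec (CommRingCat.of k))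
  haveI : QuasiSeparatedSpace X :=
    quasiSeparatedSpace_of_quasiSeparated (X ↘ Spec (CommRingCat.of k))
  have hE : ∀ q r : ℕ, Lef.HomToFormalBijective J (∐ fun _ : Fin r => RefHull.dual (CohB1.tensorPow L q)) :=
    fun q r => homToFormal_sigma _ fun _ => homToFormal_dual_pow k hL hamp hdepth q
  obtain ⟨q, r, p, -, hp⟩ := H10Coh.DualEmbed.exists_epi_dual_pow hamp hD
  have hEc := H16Derived.KFlat.Stalk.isCoh_of_isFinLocFree (H10Coh.DualEmbed.isFinLocFree_sum hamp.1 q r)
  obtain ⟨q', r', p', -, hp'⟩ := H10Coh.DualEmbed.exists_epi_dual_pow hamp (H10Coh.isCoh_kernel p hEc hD.1)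
  exact homToFormal_of_epi p (hE q r) (injective_of_epi p' (hE q' r').1)

end Ample

section Open

variable (U : X.Opens)

theorem isIso_unitToPush {Y Z : Scheme.{u}} (g : Y ⟶ Z)
    (h : ∀ V : Z.Opens, Function.Bijective (g.app V)) : IsIso (ClSub.unitToPush g) :=
  H22Alg.PnDeg0.isIso_of_bijective_basis (ClSub.unitToPush g) (fun _ => True)
    (fun W x hx => ⟨W, trivial, hx, le_rfl⟩) fun V _ => h V

theorem bijective_app_ι [IsLocallyNoetherian X]
    (hd : ∀ x : X, x ∉ U → 2 ≤ LocCoh.depth (X.presheaf.stalk x) ((Coh.structureModule X).presheaf.stalk x))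
    (V : X.Opens) : Function.Bijective (U.ι.app V) := by
  have h1 := S1575.result X (Coh.structureModule X) (H10Coh.isCoh_structureModule' X) U hd V
  have hle : U.ι ''ᵁ (U.ι ⁻¹ᵁ V) = V ⊓ U := by rw [Scheme.Hom.image_preimage_eq_opensRange_inf, Scheme.Opens.opensRange_ι, inf_comm]
  rw [Scheme.Opens.ι_app]
  have key : ∀ (W W' : X.Opens) (e : W = W') (h : W ≤ V) (h' : W' ≤ V),
      Function.Bijective (X.presheaf.map (homOfLE h').op) → Function.Bijective (X.presheaf.map (homOfLE h).op) := by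
    rintro W W' rfl h h' hh; exact hh
  exact key _ _ hle _ inf_le_left h1

/-- The quotients by powers of the ideal are pushed forward from an open around its support. -/
theorem exists_quot_iso (hU : (J.support : Set X) ⊆ (U : Set X)) (n : ℕ) :
    ∃ γ : ClSub.quotMod (J ^ (n + 1)) ≅
        (Scheme.Modules.pushforward U.ι).obj (ClSub.quotMod (J.comap U.ι ^ (n + 1))),
      ClSub.toSubscheme (J ^ (n + 1)) ≫ γ.hom =
        ClSub.unitToPush U.ι ≫ (Scheme.Modules.pushforward U.ι).map (ClSub.toSubscheme (J.comap U.ι ^ (n + 1))) := by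
  obtain ⟨c, hc, hcι⟩ := H11LefFEt.Transfer.exists_levelIso J U hU n
  haveI := hc
  haveI : IsIso (ClSub.unitToPush c) := isIso_unitToPush c fun V => ConcreteCategory.bijective_of_isIso (c.app V)
  refine ⟨(Scheme.Modules.pushforward (J ^ (n + 1)).subschemeι).mapIso (asIso (ClSub.unitToPush c)) ≪≫
    (Scheme.Modules.pushforwardComp c (J ^ (n + 1)).subschemeι).app _ ≪≫
    (Scheme.Modules.pushforwardCongr hcι).app _ ≪≫
    ((Scheme.Modules.pushforwardComp (J.comap U.ι ^ (n + 1)).subschemeι U.ι).app _).symm,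
    H05EGA4.LefConn.unit_hom_ext ?_⟩
  show (Coh.structureModule (J.comap U.ι ^ (n + 1)).subscheme).presheaf.map _
      (c.app ⊤ ((J ^ (n + 1)).subschemeι.app ⊤ (1 : Γ(X, ⊤)))) =
    (J.comap U.ι ^ (n + 1)).subschemeι.app ⊤ (U.ι.app ⊤ (1 : Γ(X, ⊤)))
  rw [map_one ((J ^ (n + 1)).subschemeι.app ⊤).hom, map_one (c.app ⊤).hom, map_one (U.ι.app ⊤).hom,
    map_one ((J.comap U.ι ^ (n + 1)).subschemeι.app ⊤).hom]
  exact map_one ((J.comap U.ι ^ (n + 1)).subscheme.presheaf.map _).hom

theorem quot_iso_compat {U' : Scheme.{u}} (j : U' ⟶ X) {I K : X.IdealSheafData} {I' K' : U'.IdealSheafData}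
    (h : I ≤ K) (h' : I' ≤ K') (γ : ClSub.quotMod I ⟶ (Scheme.Modules.pushforward j).obj (ClSub.quotMod I'))
    (γ' : ClSub.quotMod K ⟶ (Scheme.Modules.pushforward j).obj (ClSub.quotMod K'))
    (e : ClSub.toSubscheme I ≫ γ = ClSub.unitToPush j ≫ (Scheme.Modules.pushforward j).map (ClSub.toSubscheme I'))
    (e' : ClSub.toSubscheme K ≫ γ' = ClSub.unitToPush j ≫ (Scheme.Modules.pushforward j).map (ClSub.toSubscheme K')) :
    γ ≫ (Scheme.Modules.pushforward j).map (Lef.quotMap h') = Lef.quotMap h ≫ γ' := by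
  haveI := H10Coh.epi_toSubscheme I
  rw [← cancel_epi (ClSub.toSubscheme I), ← Category.assoc, e, Category.assoc, ← Functor.map_comp,
    H11LefFEt.toSubscheme_quotMap, ← Category.assoc (ClSub.toSubscheme I), H11LefFEt.toSubscheme_quotMap, e']

theorem transpose_compat {C D : Type*} [Category C] [Category D] {F : C ⥤ D} {G : D ⥤ C} (adj : F ⊣ G) {A : C}
    {B : D} (e : F.obj A ≅ B) {Q₁ Q₀ : C} {R₁ R₀ : D} (γ₁ : Q₁ ≅ G.obj R₁) (γ₀ : Q₀ ≅ G.obj R₀) (q : Q₁ ⟶ Q₀)
    (q' : R₁ ⟶ R₀) (comm : γ₁.hom ≫ G.map q' = q ≫ γ₀.hom) (a : B ⟶ R₁) (b : B ⟶ R₀) (hb : a ≫ q' = b) :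
    (adj.homEquiv A R₁ (e.hom ≫ a) ≫ γ₁.inv) ≫ q = adj.homEquiv A R₀ (e.hom ≫ b) ≫ γ₀.inv := by
  subst hb
  rw [show e.hom ≫ a ≫ q' = (e.hom ≫ a) ≫ q' from (Category.assoc _ _ _).symm,
    adj.homEquiv_naturality_right (e.hom ≫ a) q', Iso.eq_comp_inv]
  simp only [Category.assoc]
  rw [← comm, Iso.inv_hom_id_assoc]

/-- Completeness passes from a coherent module to its restriction. -/
theorem homToFormal_restrict (hU : (J.support : Set X) ⊆ (U : Set X))
    [IsIso (ClSub.unitToPush U.ι)] {D' : X.Modules} {D : (U : Scheme.{u}).Modules}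
    (e : (Scheme.Modules.restrictFunctor U.ι).obj D' ≅ D) (h : Lef.HomToFormalBijective J D') :
    Lef.HomToFormalBijective (J.comap U.ι) D := by
  choose γ hγ using exists_quot_iso (J := J) U hU
  let adj := Scheme.Modules.restrictAdjunction U.ι
  let push := Scheme.Modules.pushforward U.ι
  let δ := ClSub.unitToPush U.ι
  let O := Coh.structureModule (U : Scheme.{u})
  let τ : ∀ n : ℕ, O ⟶ ClSub.quotMod (J.comap U.ι ^ (n + 1)) := fun n => ClSub.toSubscheme (J.comap U.ι ^ (n + 1))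
  have hnat : ∀ (n : ℕ) (φ : D ⟶ O),
      (adj.homEquiv D' O (e.hom ≫ φ) ≫ inv δ) ≫ ClSub.toSubscheme (J ^ (n + 1)) =
        adj.homEquiv D' _ (e.hom ≫ φ ≫ τ n) ≫ (γ n).inv := fun n φ => by
    rw [Iso.eq_comp_inv, Category.assoc, Category.assoc, hγ n, IsIso.inv_hom_id_assoc,
      ← Adjunction.homEquiv_naturality_right, Category.assoc]
  refine ⟨fun φ ψ hφψ => ?_, fun y hy => ?_⟩
  · have key := h.1 (adj.homEquiv D' O (e.hom ≫ φ) ≫ inv δ) (adj.homEquiv D' O (e.hom ≫ ψ) ≫ inv δ)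
      fun n => by rw [hnat, hnat, show φ ≫ τ n = ψ ≫ τ n from hφψ n]
    exact (cancel_epi e.hom).1 ((adj.homEquiv D' O).injective ((cancel_mono (inv δ)).1 key))
  · obtain ⟨φ', hφ'⟩ := h.2 (fun n => adj.homEquiv D' _ (e.hom ≫ y n) ≫ (γ n).inv) fun n =>
      transpose_compat adj e (γ (n + 1)) (γ n) (Lef.quotMap (Lef.pow_succ_le J n))
        (Lef.quotMap (Lef.pow_succ_le (J.comap U.ι) n))
        (quot_iso_compat U.ι (Lef.pow_succ_le J n) (Lef.pow_succ_le (J.comap U.ι) n) _ _ (hγ (n + 1)) (hγ n))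
        (y (n + 1)) (y n) (hy n)
    refine ⟨e.inv ≫ (adj.homEquiv D' O).symm (φ' ≫ δ), fun n => ?_⟩
    show (e.inv ≫ (adj.homEquiv D' O).symm (φ' ≫ δ)) ≫ τ n = y n
    rw [Category.assoc, Iso.inv_comp_eq, ← Adjunction.homEquiv_naturality_right_symm, Category.assoc, ← hγ n,
      ← Category.assoc, hφ' n, Category.assoc, Iso.inv_hom_id, Category.comp_id, Equiv.symm_apply_apply]

end Open

/-- A point outside a neighbourhood of an ample divisor is closed. -/
theorem isClosed_singleton_of_notMem (k : Type u) [Field k] [X.Over (Spec (CommRingCat.of k))]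
    [IsProper (X ↘ Spec (CommRingCat.of k))] {L : X.Modules} (hL : ClSub.IsInverseOf L (ClSub.idealMod J))
    (hamp : CohB1.IsAmple L) (U : X.Opens) (hU : (J.support : Set X) ⊆ (U : Set X)) {x : X} (hx : x ∉ U) :
    IsClosed ({x} : Set X) := by
  let f := X ↘ Spec (CommRingCat.of k)
  have h := (S5195.result k X J L hL hamp (U : Set X)ᶜ U.isOpen.isClosed_compl
    (Set.disjoint_left.2 fun z hz hz' => hz (hU hz')) 0).1 x hx
  haveI : Subsingleton ↥(Spec (CommRingCat.of k)) := inferInstanceAs (Subsingleton (PrimeSpectrum k))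
  have hr : IsClosed (Set.range (f.fiberι (f.base x))) := by
    rw [Scheme.Hom.range_fiberι, Set.eq_univ_of_forall (s := f.base ⁻¹' {f.base x}) fun z => Subsingleton.elim _ _]
    exact isClosed_univ
  have himg := (Topology.IsClosedEmbedding.mk (f.fiberι (f.base x)).isEmbedding hr).isClosedMap _ h
  rwa [Set.image_singleton, Scheme.Hom.fiberι_asFiber] at himg

/-- The Lefschetz condition for an ample effective divisor on a proper scheme of depth two. -/
theorem lefCond (k : Type u) [Field k] [X.Over (Spec (CommRingCat.of k))]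
    [IsProper (X ↘ Spec (CommRingCat.of k))] {L : X.Modules} (hL : ClSub.IsInverseOf L (ClSub.idealMod J))
    (hamp : CohB1.IsAmple L)
    (hdepth : ∀ x : X, IsClosed ({x} : Set X) → (2 : ℕ∞) ≤ LocCoh.depth (X.presheaf.stalk x) (X.presheaf.stalk x)) :
    Lef.LefCond X J := by
  haveI : IsLocallyNoetherian X := LocallyOfFiniteType.isLocallyNoetherian (X ↘ Spec (CommRingCat.of k))
  haveI : CompactSpace X := QuasiCompact.compactSpace_of_compactSpace (X ↘ Spec (CommRingCat.of k))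
  haveI : IsNoetherian X := {}
  intro U hU D hD
  haveI : IsIso (ClSub.unitToPush U.ι) := isIso_unitToPush U.ι fun V => bijective_app_ι U (fun x hx => by
    rw [H22Alg.ESZCM.depth_structure]
    exact hdepth x (isClosed_singleton_of_notMem k hL hamp U hU hx)) V
  haveI := H16Derived.GTheory.isNoetherian_of_open U.ι
  obtain ⟨D', hD', ⟨e⟩⟩ := H16Derived.GTheory.exists_extension U.ι (H16Derived.KFlat.Stalk.isCoh_of_isFinLocFree hD)
  exact homToFormal_restrict U hU e (homToFormal_of_isCoh k hL hamp hdepth hD')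

end Groth.Agent.H3Lef
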