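import Groth.Agent.H3Lef.SysGen
import Groth.Agent.H28RR.NumConnSect

/-!
# Morphisms of completions into sums of invertible modules come from morphisms
-/

set_option autoImplicit false
set_option linter.style.haveILetI false
set_option linter.unusedSectionVars false
set_option backward.isDefEq.respectTransparency false

universe u

open CategoryTheory CategoryTheory.Limits AlgebraicGeometry Opposite TopologicalSpace

namespace Groth.Agent.H3Lef

section Abstract

variable {C : Type*} [Category C]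

/-- Compatible maps to the quotients lift. -/
def FormalLift (D : C) {G : C} {Q : ℕ → C} (q : ∀ n, G ⟶ Q n) (t : ∀ n, Q (n + 1) ⟶ Q n) : Prop :=
  ∀ y : ∀ n, D ⟶ Q n, (∀ n, y (n + 1) ≫ t n = y n) → ∃ φ : D ⟶ G, ∀ n, φ ≫ q n = y n

theorem formalLift_of_iso {D G G' : C} {Q Q' : ℕ → C} {q : ∀ n, G ⟶ Q n} {t : ∀ n, Q (n + 1) ⟶ Q n}
    {q' : ∀ n, G' ⟶ Q' n} {t' : ∀ n, Q' (n + 1) ⟶ Q' n} [∀ n, Epi (q n)]
    (hq : ∀ n, q (n + 1) ≫ t n = q n) (hq' : ∀ n, q' (n + 1) ≫ t' n = q' n) (g : G ≅ G') (e : ∀ n, Q n ≅ Q' n)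
    (he : ∀ n, q n ≫ (e n).hom = g.hom ≫ q' n) (h : FormalLift D q' t') : FormalLift D q t := by
  intro y hy
  have hte : ∀ n, (e (n + 1)).hom ≫ t' n = t n ≫ (e n).hom := fun n => (cancel_epi (q (n + 1))).1 (by
    rw [← Category.assoc, he, Category.assoc, hq', ← Category.assoc, hq, he])
  obtain ⟨φ, hφ⟩ := h (fun n => y n ≫ (e n).hom) fun n => by rw [Category.assoc, hte, ← Category.assoc, hy]
  refine ⟨φ ≫ g.inv, fun n => (cancel_mono (e n).hom).1 ?_⟩
  rw [Category.assoc, Category.assoc, he, Iso.inv_hom_id_assoc, hφ]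

theorem formalLift_of_equivalence {C' : Type*} [Category C'] (T : C ⥤ C') [T.Full] [T.Faithful] {D G : C}
    {Q : ℕ → C} {q : ∀ n, G ⟶ Q n} {t : ∀ n, Q (n + 1) ⟶ Q n}
    (h : FormalLift (T.obj D) (fun n => T.map (q n)) (fun n => T.map (t n))) : FormalLift D q t := by
  intro y hy
  obtain ⟨φ, hφ⟩ := h (fun n => T.map (y n)) fun n => by rw [← T.map_comp, hy]
  obtain ⟨φ', rfl⟩ := T.map_surjective φ
  exact ⟨φ', fun n => T.map_injective (by rw [T.map_comp, hφ])⟩

/-- Two epimorphisms factoring through each other. -/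
theorem exists_iso_under {G Q Q' : C} (q : G ⟶ Q) (q' : G ⟶ Q') [Epi q] [Epi q'] (a : Q ⟶ Q') (b : Q' ⟶ Q)
    (ha : q ≫ a = q') (hb : q' ≫ b = q) : ∃ e : Q ≅ Q', q ≫ e.hom = q' :=
  ⟨⟨a, b, (cancel_epi q).1 (by rw [← Category.assoc, ha, hb, Category.comp_id]),
    (cancel_epi q').1 (by rw [← Category.assoc, hb, ha, Category.comp_id])⟩, ha⟩

theorem formalLift_of_split [Preadditive C] {D G : C} {Q : ℕ → C} (q : ∀ n, G ⟶ Q n)
    (t : ∀ n, Q (n + 1) ⟶ Q n) [∀ n, Epi (q n)] (hq : ∀ n, q (n + 1) ≫ t n = q n) {r : ℕ} {G' : Fin r → C}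
    {Q' : Fin r → ℕ → C} (q' : ∀ a n, G' a ⟶ Q' a n) (t' : ∀ a n, Q' a (n + 1) ⟶ Q' a n)
    (hq' : ∀ a n, q' a (n + 1) ≫ t' a n = q' a n) (π : ∀ a, G ⟶ G' a) (i : ∀ a, G' a ⟶ G)
    (hπi : ∑ a, π a ≫ i a = 𝟙 G) (P : ∀ a n, Q n ⟶ Q' a n) (I : ∀ a n, Q' a n ⟶ Q n)
    (hP : ∀ a n, q n ≫ P a n = π a ≫ q' a n) (hI : ∀ a n, q' a n ≫ I a n = i a ≫ q n)
    (h : ∀ a, FormalLift D (q' a) (t' a)) : FormalLift D q t := by
  intro y hy
  have hPt : ∀ a n, P a (n + 1) ≫ t' a n = t n ≫ P a n := fun a n => (cancel_epi (q (n + 1))).1 (by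
    rw [← Category.assoc, hP, Category.assoc, hq', ← Category.assoc, hq, hP])
  choose φ hφ using fun a => h a (fun n => y n ≫ P a n) fun n => by rw [Category.assoc, hPt, ← Category.assoc, hy]
  have hsum : ∀ n, ∑ a, P a n ≫ I a n = 𝟙 (Q n) := fun n => (cancel_epi (q n)).1 (by
    have h1 : ∀ a, q n ≫ P a n ≫ I a n = (π a ≫ i a) ≫ q n := fun a => by
      rw [← Category.assoc (q n), hP, Category.assoc, hI, Category.assoc]
    simp only [Preadditive.comp_sum, h1, Category.comp_id]
    rw [← Preadditive.sum_comp, hπi, Category.id_comp])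
  refine ⟨∑ a, φ a ≫ i a, fun n => ?_⟩
  have h1 : ∀ a, (φ a ≫ i a) ≫ q n = y n ≫ P a n ≫ I a n := fun a => by
    rw [Category.assoc, ← hI, ← Category.assoc, hφ, Category.assoc]
  rw [Preadditive.sum_comp]
  simp only [h1]
  rw [← Preadditive.comp_sum, hsum, Category.comp_id]

theorem unit_comp_symm {C' : Type*} [Category C'] {F : C ⥤ C'} {R : C' ⥤ C} (adj : F ⊣ R) {G : C} {H : C'}
    (f : G ⟶ R.obj H) : adj.unit.app G ≫ R.map ((adj.homEquiv G H).symm f) = f :=
  (adj.homEquiv_unit _ _ _).symm.trans (Equiv.apply_symm_apply _ _)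

theorem exists_factor_of_adj {C' : Type*} [Category C'] {F : C ⥤ C'} {R : C' ⥤ C} (adj : F ⊣ R) {G : C} {H : C'}
    {Z : C} (e : Z ≅ R.obj H) (f : G ⟶ Z) : ∃ b, adj.unit.app G ≫ b = f :=
  ⟨R.map ((adj.homEquiv G H).symm (f ≫ e.hom)) ≫ e.inv, by
    rw [← Category.assoc]
    refine (congrArg (· ≫ e.inv) ((adj.homEquiv_unit _ _ _).symm.trans (Equiv.apply_symm_apply _ _))).trans ?_
    rw [Category.assoc, e.hom_inv_id, Category.comp_id]⟩

/-- An equivalence preserving the image of the right adjoint commutes with the unit quotients. -/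
theorem exists_iso_equivalence {C' : Type*} [Category C'] {F : C ⥤ C'} {R : C' ⥤ C} (adj : F ⊣ R) (T : C ≌ C)
    (h₁ : ∀ H, ∃ H', Nonempty (T.functor.obj (R.obj H) ≅ R.obj H'))
    (h₂ : ∀ H, ∃ H', Nonempty (T.inverse.obj (R.obj H) ≅ R.obj H')) (G : C)
    [Epi (adj.unit.app G)] [Epi (adj.unit.app (T.functor.obj G))] :
    ∃ e : T.functor.obj (R.obj (F.obj G)) ≅ R.obj (F.obj (T.functor.obj G)),
      T.functor.map (adj.unit.app G) ≫ e.hom = adj.unit.app (T.functor.obj G) := by
  obtain ⟨H₁, ⟨e₁⟩⟩ := h₁ (F.obj G)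
  obtain ⟨H₂, ⟨e₂⟩⟩ := h₂ (F.obj (T.functor.obj G))
  obtain ⟨b, hb⟩ := exists_factor_of_adj adj e₁ (T.functor.map (adj.unit.app G))
  obtain ⟨a, ha⟩ := exists_factor_of_adj adj e₂
    (T.unitIso.hom.app G ≫ T.inverse.map (adj.unit.app (T.functor.obj G)))
  haveI : Epi (T.functor.map (adj.unit.app G)) := inferInstance
  have hz : ∀ {Y : C} (v : T.functor.obj G ⟶ Y),
      T.functor.map (T.unitIso.hom.app G ≫ T.inverse.map v) ≫ T.counitIso.hom.app Y = v := fun v => by
    have h3 := T.counitIso.hom.naturality v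
    rw [T.functor.map_comp, Category.assoc]
    refine (congrArg (T.functor.map (T.unitIso.hom.app G) ≫ ·) h3).trans ?_
    rw [← Category.assoc]
    exact (congrArg (· ≫ v) (T.functor_unitIso_comp G)).trans (Category.id_comp v)
  refine exists_iso_under _ _ (T.functor.map a ≫ T.counitIso.hom.app (R.obj (F.obj (T.functor.obj G)))) b ?_ hb
  refine (Category.assoc _ _ _).symm.trans ((congrArg (· ≫ T.counitIso.hom.app _)
    ((T.functor.map_comp _ _).symm.trans (congrArg T.functor.map ha))).trans (hz _))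

/-- Transport of lifting along an equivalence preserving the images of the right adjoints. -/
theorem formalLift_transfer {C' : ℕ → Type*} [∀ n, Category (C' n)] {F : ∀ n, C ⥤ C' n} {R : ∀ n, C' n ⥤ C}
    (adj : ∀ n, F n ⊣ R n) (step : ∀ (G : C) (n : ℕ), (R (n + 1)).obj ((F (n + 1)).obj G) ⟶ (R n).obj ((F n).obj G))
    (hstep : ∀ G n, (adj (n + 1)).unit.app G ≫ step G n = (adj n).unit.app G)
    (hepi : ∀ G n, Epi ((adj n).unit.app G)) (T : C ≌ C)
    (h₁ : ∀ n H, ∃ H', Nonempty (T.functor.obj ((R n).obj H) ≅ (R n).obj H'))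
    (h₂ : ∀ n H, ∃ H', Nonempty (T.inverse.obj ((R n).obj H) ≅ (R n).obj H'))
    {D G G' : C} (g : T.functor.obj G ≅ G')
    (h : FormalLift (T.functor.obj D) (fun n => (adj n).unit.app G') (step G')) :
    FormalLift D (fun n => (adj n).unit.app G) (step G) := by
  haveI := hepi
  choose q hq using fun n => exists_iso_equivalence (adj n) T (h₁ n) (h₂ n) G
  refine formalLift_of_equivalence T.functor ?_
  refine formalLift_of_iso (fun n => ?_) (hstep G') g (fun n => q n ≪≫ (R n).mapIso ((F n).mapIso g)) (fun n => ?_) h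
  · rw [← Functor.map_comp, hstep]
  · rw [Iso.trans_hom, ← Category.assoc]
    refine (congrArg (· ≫ _) (hq n)).trans ?_
    exact ((adj n).unit.naturality g.hom).symm

end Abstract

variable {X : Scheme.{u}} [IsLocallyNoetherian X] (J : X.IdealSheafData)

/-- The quotient of a module at a level. -/
noncomputable abbrev levQ (G : X.Modules) (n : ℕ) :=
  (Scheme.Modules.pullbackPushforwardAdjunction (FSch.completionToX X J n)).unit.app G

instance isClosedImmersion_toX (n : ℕ) : IsClosedImmersion (FSch.completionToX X J n) :=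
  inferInstanceAs (IsClosedImmersion (J ^ (n + 1)).subschemeι)

instance isLocallyNoetherian_level (n : ℕ) : IsLocallyNoetherian ((FSch.completionAlong X J).X n) :=
  LocallyOfFiniteType.isLocallyNoetherian (FSch.completionToX X J n)

theorem levQ_step (G : X.Modules) (n : ℕ) :
    levQ J G (n + 1) ≫ H24FMod.stepMap (FSch.completionToX X J) (FSch.completionToX_comm X J)
      (H24FMod.pbSys (FSch.completionToX X J) (cT J) G) n = levQ J G n :=
  H24FMod.lvUnit_step (FSch.completionToX X J) (FSch.completionToX_comm X J) (cT J) (fun _ => rfl) G n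

/-- Compatible maps to the levels of `G` lift. -/
def LevLift (D G : X.Modules) : Prop :=
  FormalLift D (levQ J G) (fun n => H24FMod.stepMap (FSch.completionToX X J) (FSch.completionToX_comm X J)
      (H24FMod.pbSys (FSch.completionToX X J) (cT J) G) n)

theorem exists_iso_quot (n : ℕ) :
    ∃ e : (Scheme.Modules.pushforward (FSch.completionToX X J n)).obj
        ((Scheme.Modules.pullback (FSch.completionToX X J n)).obj (Coh.structureModule X)) ≅
      ClSub.quotMod (J ^ (n + 1)), levQ J (Coh.structureModule X) n ≫ e.hom = ClSub.toSubscheme (J ^ (n + 1)) := by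
  let c := FSch.completionToX X J n
  let adj := Scheme.Modules.pullbackPushforwardAdjunction c
  let ψ := (adj.homEquiv (Coh.structureModule X) (Coh.structureModule (J ^ (n + 1)).subscheme)).symm
    (ClSub.toSubscheme (J ^ (n + 1)))
  have h : adj.unit.app _ ≫ (Scheme.Modules.pushforward c).map ψ = ClSub.toSubscheme (J ^ (n + 1)) :=
    unit_comp_symm adj (ClSub.toSubscheme (J ^ (n + 1)))
  haveI : Epi ψ := by
    haveI : IsIso (adj.counit.app (Coh.structureModule (J ^ (n + 1)).subscheme)) :=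
      H24Hilb.Closed.isIso_counit_of_isClosedImmersion c _
    haveI := H10Coh.epi_toSubscheme (J ^ (n + 1))
    haveI : Epi ((Scheme.Modules.pullback c).map (ClSub.toSubscheme (J ^ (n + 1)))) := by
      haveI := adj.isLeftAdjoint
      infer_instance
    rw [show ψ = _ from adj.homEquiv_counit _ _ _]
    infer_instance
  haveI : IsIso ψ := H28RR.isIso_of_epi_invertible
    (H11Ample.isInvertible_pullback c H11Ample.isInvertible_structureModule)
    H11Ample.isInvertible_structureModule ψ
  exact ⟨(Scheme.Modules.pushforward c).mapIso (asIso ψ), h⟩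

theorem toSubscheme_step (n : ℕ) :
    ClSub.toSubscheme (J ^ (n + 1 + 1)) ≫ Lef.quotMap (Lef.pow_succ_le J n) = ClSub.toSubscheme (J ^ (n + 1)) :=
  H11LefFEt.toSubscheme_quotMap (Lef.pow_succ_le J n)

theorem formalLift_quot {D : X.Modules} (hD : Lef.HomToFormalBijective J D) :
    FormalLift D (fun n => ClSub.toSubscheme (J ^ (n + 1))) (fun n => Lef.quotMap (Lef.pow_succ_le J n)) :=
  fun y hy => hD.2 y hy

theorem levLift_one {D : X.Modules} (hD : Lef.HomToFormalBijective J D) :
    LevLift J D (Coh.structureModule X) := by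
  choose e he using exists_iso_quot J
  haveI : ∀ n, Epi (levQ J (Coh.structureModule X) n) := fun n => H16Derived.GTheory.epi_unit _ _
  refine formalLift_of_iso (q := levQ J (Coh.structureModule X))
    (q' := fun n => ClSub.toSubscheme (J ^ (n + 1))) (t' := fun n => Lef.quotMap (Lef.pow_succ_le J n))
    (levQ_step J _) (toSubscheme_step J) (Iso.refl _) e (fun n => ?_) (formalLift_quot J hD)
  exact (he n).trans (Category.id_comp _).symm

theorem exists_obj_push_tensor' {Z : Scheme.{u}} (c : Z ⟶ X) [IsClosedImmersion c] {P : X.Modules}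
    (hP : PicF.IsInvertible P) (H : Z.Modules) :
    ∃ H', Nonempty ((tw P).obj ((Scheme.Modules.pushforward c).obj H) ≅ (Scheme.Modules.pushforward c).obj H') :=
  ⟨_, H10Coh.Tw.nonempty_push_tensor_iso c H hP⟩

theorem exists_obj_push_tensor {P : X.Modules} (hP : PicF.IsInvertible P) (n : ℕ)
    (H : ((FSch.completionAlong X J).X n).Modules) :
    ∃ H', Nonempty ((tw P).obj ((Scheme.Modules.pushforward (FSch.completionToX X J n)).obj H) ≅
      (Scheme.Modules.pushforward (FSch.completionToX X J n)).obj H') :=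
  exists_obj_push_tensor' (FSch.completionToX X J n) hP H

/-- An invertible target. -/
theorem levLift_invertible {N P : X.Modules} (hN : PicF.IsInvertible N) (hP : PicF.IsInvertible P)
    (e : CohB1.tensorMod N P ≅ Coh.structureModule X) {D : X.Modules}
    (hD : Lef.HomToFormalBijective J ((tw P).obj D)) : LevLift J D N := by
  haveI : (tw P).IsEquivalence := H17.FLI.DivExt.isEquivalence_flip (H10Coh.Tw.commIso P N ≪≫ e)
  let T := (tw P).asEquivalence
  haveI : ∀ G n, Epi (levQ J G n) := fun G n => H16Derived.GTheory.epi_unit _ _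
  have h₂ : ∀ n H, ∃ H', Nonempty (T.inverse.obj ((Scheme.Modules.pushforward (FSch.completionToX X J n)).obj H) ≅
      (Scheme.Modules.pushforward (FSch.completionToX X J n)).obj H') := fun n H => by
    obtain ⟨H', ⟨i⟩⟩ := exists_obj_push_tensor J hN n H
    refine ⟨H', ⟨T.inverse.mapIso ?_ ≪≫ (T.unitIso.app _).symm ≪≫ i⟩⟩
    exact (H10Coh.Tw.rightUnitIso _).symm ≪≫ PicGrp.tensorModIso (Iso.refl _) e.symm ≪≫
      (H10Coh.Tw.assoc _ N P).symm
  exact formalLift_transfer (fun n => Scheme.Modules.pullbackPushforwardAdjunction (FSch.completionToX X J n))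
    (fun G n => H24FMod.stepMap (FSch.completionToX X J) (FSch.completionToX_comm X J)
      (H24FMod.pbSys (FSch.completionToX X J) (cT J) G) n)
    (levQ_step J) (fun G n => inferInstanceAs (Epi (levQ J G n))) T (exists_obj_push_tensor J hP) h₂
    (G' := Coh.structureModule X) e (levLift_one J hD)

/-- A sum of invertible targets. -/
theorem levLift_sigma {r : ℕ} (N : Fin r → X.Modules) {D : X.Modules} (h : ∀ a, LevLift J D (N a)) :
    LevLift J D (∐ N) := by
  classical
  haveI : ∀ n, Epi (levQ J (∐ N) n) := fun n => H16Derived.GTheory.epi_unit _ _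
  let π : ∀ a, (∐ N) ⟶ N a := fun a => Sigma.desc fun b => if h : b = a then eqToHom (congrArg N h) else 0
  let F := fun n => Scheme.Modules.pullback (FSch.completionToX X J n) ⋙
    Scheme.Modules.pushforward (FSch.completionToX X J n)
  refine formalLift_of_split _ _ (levQ_step J _) (fun a n => levQ J (N a) n) _ (fun a => levQ_step J (N a))
    π (Sigma.ι N) (Sigma.hom_ext _ _ fun b => ?_) (fun a n => (F n).map (π a)) (fun a n => (F n).map (Sigma.ι N a))
    (fun a n => ((Scheme.Modules.pullbackPushforwardAdjunction (FSch.completionToX X J n)).unit.naturality (π a)).symm)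
    (fun a n => ((Scheme.Modules.pullbackPushforwardAdjunction (FSch.completionToX X J n)).unit.naturality
      (Sigma.ι N a)).symm) h
  refine (Preadditive.comp_sum _ _ _).trans (Eq.trans ?_ (Category.comp_id _).symm)
  rw [Finset.sum_eq_single b]
  · simp [π]
  · intro a _ ha
    simp [π, Ne.symm ha]
  · intro hb
    exact absurd (Finset.mem_univ b) hb

theorem exists_hom_of_lift {𝔛 : FSch.Sys.{u}} (c : ∀ n, 𝔛.X n ⟶ X) (hc : ∀ n, 𝔛.ι n ≫ c (n + 1) = c n)
    (T : ∀ n, Scheme.Modules.pullback (c (n + 1)) ⋙ Scheme.Modules.pullback (𝔛.ι n) ≅ Scheme.Modules.pullback (c n))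
    (hT : ∀ n, T n = Scheme.Modules.pullbackComp (𝔛.ι n) (c (n + 1)) ≪≫ Scheme.Modules.pullbackCongr (hc n))
    [∀ n, IsClosedImmersion (c n)] {D G : X.Modules}
    (h : FormalLift D (fun n => (Scheme.Modules.pullbackPushforwardAdjunction (c n)).unit.app G)
      (fun n => H24FMod.stepMap c hc (H24FMod.pbSys c T G) n))
    (χ : H24FMod.pbSys c T D ⟶ H24FMod.pbSys c T G) :
    ∃ φ : D ⟶ G, ∀ n, χ.app n = (Scheme.Modules.pullback (c n)).map φ := by
  obtain ⟨φ, hφ⟩ := h (fun n => (Scheme.Modules.pullbackPushforwardAdjunction (c n)).unit.app D ≫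
      (Scheme.Modules.pushforward (c n)).map (χ.app n)) fun n => by
    have h1 := (H24FMod.step_natural c hc χ.app n).2 (FSch.ModSys.Hom.toPush_comm χ n)
    refine (Category.assoc _ _ _).trans ?_
    refine (congrArg (_ ≫ ·) h1.symm).trans ((Category.assoc _ _ _).symm.trans ?_)
    exact congrArg (· ≫ (Scheme.Modules.pushforward (c n)).map (χ.app n))
      (H24FMod.lvUnit_step c hc T hT D n)
  refine ⟨φ, fun n => ?_⟩
  let adj := Scheme.Modules.pullbackPushforwardAdjunction (c n)
  refine (adj.homEquiv _ _).injective ((adj.homEquiv_unit _ _ _).trans ?_)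
  exact ((hφ n).symm.trans (adj.unit.naturality φ)).trans (adj.homEquiv_unit _ _ _).symm

/-- A morphism of completions into a lifting target is a completion of a morphism. -/
theorem exists_hom_completion {D G : X.Modules} (h : LevLift J D G)
    (χ : H24FMod.pbSys (FSch.completionToX X J) (cT J) D ⟶ H24FMod.pbSys (FSch.completionToX X J) (cT J) G) :
    ∃ φ : D ⟶ G, ∀ n, χ.app n = (Scheme.Modules.pullback (FSch.completionToX X J n)).map φ :=
  exists_hom_of_lift (FSch.completionToX X J) (FSch.completionToX_comm X J) (cT J) (fun _ => rfl) h χ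

end Groth.Agent.H3Lef
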