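import Groth.Agent.H3Lef.SysGen
import Groth.Agent.H10Coh.AffineAmple

/-!
# A system is a quotient of the completion of a locally free module
-/

set_option autoImplicit false
set_option linter.style.haveILetI false
set_option linter.unusedSectionVars false
set_option backward.isDefEq.respectTransparency false

universe u

open CategoryTheory CategoryTheory.Limits AlgebraicGeometry Opposite TopologicalSpace

attribute [local instance 10000] Groth.Agent.H10Coh.hasSheafifyAb Groth.Agent.H10Coh.hasWeakSheafifyAb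
  Groth.Agent.H10Coh.hasExtAb Groth.Agent.H10Coh.enoughInjAb

namespace Groth.Agent.H3Lef

variable {X : Scheme.{u}}

theorem isEquivalence_Tk (T : X.Modules ⥤ X.Modules) [T.IsEquivalence] : ∀ k, (Tk T k).IsEquivalence
  | 0 => inferInstanceAs (𝟭 X.Modules).IsEquivalence
  | k + 1 =>
    haveI := isEquivalence_Tk T k
    inferInstanceAs (T ⋙ Tk T k).IsEquivalence

/-- Maps out of an object sent to `O` by an equivalence, one for each lifted section. -/
theorem exists_hom_lift {T : X.Modules ⥤ X.Modules} [T.IsEquivalence] {N : X.Modules}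
    (c : T.obj N ≅ Coh.structureModule X) {Q : ℕ → X.Modules} (tr : ∀ n, Q (n + 1) ⟶ Q n)
    (h : ∀ g : Coh.HH X (T.obj (Q 0)) 0, ∃ f : ∀ n, Coh.HH X (T.obj (Q n)) 0,
      (∀ n, LeadFF.Hm (T.map (tr n)) 0 (f (n + 1)) = f n) ∧ f 0 = g)
    (g : Coh.structureModule X ⟶ T.obj (Q 0)) :
    ∃ θ : ∀ n, N ⟶ Q n, (∀ n, θ (n + 1) ≫ tr n = θ n) ∧ c.inv ≫ T.map (θ 0) = g := by
  obtain ⟨f, hf, hf0⟩ := h ((H10Coh.HH0Equiv _).symm (g.app ⊤ (1 : Γ(X, ⊤))))
  choose s hs using fun n => exists_secHom (H10Coh.HH0Equiv _ (f n))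
  choose θ hθ using fun n => T.map_surjective (c.hom ≫ s n)
  refine ⟨θ, fun n => T.map_injective ?_, ?_⟩
  · rw [Functor.map_comp, hθ, hθ, Category.assoc]
    refine congrArg (c.hom ≫ ·) (H05EGA4.LefConn.unit_hom_ext ?_)
    refine Eq.trans (congrArg ((T.map (tr n)).app ⊤) (hs (n + 1))) ((H28NT.HH0Equiv_map _ _).symm.trans ?_)
    exact (congrArg _ (hf n)).trans (hs n).symm
  · rw [hθ, Iso.inv_hom_id_assoc]
    refine H05EGA4.LefConn.unit_hom_ext ((hs 0).trans ?_)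
    rw [hf0, AddEquiv.apply_symm_apply]

/-- Maps out of a sum of such objects, epimorphic at the bottom. -/
theorem exists_sum_lift {T : X.Modules ⥤ X.Modules} [T.IsEquivalence] {N : X.Modules}
    (c : T.obj N ≅ Coh.structureModule X) {Q : ℕ → X.Modules} (tr : ∀ n, Q (n + 1) ⟶ Q n)
    (h : ∀ g : Coh.HH X (T.obj (Q 0)) 0, ∃ f : ∀ n, Coh.HH X (T.obj (Q n)) 0,
      (∀ n, LeadFF.Hm (T.map (tr n)) 0 (f (n + 1)) = f n) ∧ f 0 = g)
    {r : ℕ} (ψ : (∐ fun _ : Fin r => Coh.structureModule X) ⟶ T.obj (Q 0)) [Epi ψ] :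
    ∃ φ : ∀ n, (∐ fun _ : Fin r => N) ⟶ Q n, (∀ n, φ (n + 1) ≫ tr n = φ n) ∧ Epi (φ 0) := by
  choose θ hθ hθ0 using fun a => exists_hom_lift c tr h (Sigma.ι (fun _ : Fin r => Coh.structureModule X) a ≫ ψ)
  refine ⟨fun n => Sigma.desc fun a => θ a n, fun n => Sigma.hom_ext _ _ fun a => by
    rw [Sigma.ι_desc_assoc, Sigma.ι_desc, hθ], T.epi_of_epi_map ?_⟩
  refine epi_of_epi_fac (f := Sigma.desc fun a => c.inv ≫ T.map (Sigma.ι (fun _ : Fin r => N) a)) (h := ψ) ?_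
  refine Sigma.hom_ext _ _ fun a => ?_
  rw [Sigma.ι_desc_assoc, Category.assoc, ← T.map_comp, Sigma.ι_desc, hθ0]

variable {L : X.Modules} (J : X.IdealSheafData) (A : Type u) [CommRing A] [IsNoetherianRing A]
  [X.Over (Spec (CommRingCat.of A))] [IsProper (X ↘ Spec (CommRingCat.of A))]

include A in
/-- A system is levelwise a quotient of the completion of a finite locally free module. -/
theorem exists_epi_completion (hamp : CohB1.IsAmple L) (hL : ClSub.IsInverseOf L (ClSub.idealMod J))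
    (hV : NegVanish J (ClSub.idealMod J)) (𝔐 : FSch.ModSys (FSch.completionAlong X J))
    (h𝔐 : LefX.LevelwiseFinLocFree 𝔐) :
    ∃ (r : ℕ) (N P : X.Modules) (_ : CohB1.tensorMod N P ≅ Coh.structureModule X)
      (Φ : FSch.completionMod J (∐ fun _ : Fin r => N) ⟶ 𝔐),
      PicF.IsInvertible N ∧ PicF.IsInvertible P ∧ ∀ n, Epi (Φ.app n) := by
  haveI : IsLocallyNoetherian X := LocallyOfFiniteType.isLocallyNoetherian (X ↘ Spec (CommRingCat.of A))
  haveI : CompactSpace X := QuasiCompact.compactSpace_of_compactSpace (X ↘ Spec (CommRingCat.of A))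
  haveI : QuasiSeparatedSpace X := quasiSeparatedSpace_of_quasiSeparated (X ↘ Spec (CommRingCat.of A))
  obtain ⟨k₂, hlift⟩ := exists_lift_lev A J 𝔐 hamp hL hV h𝔐
  obtain ⟨k, r, ψ, hk, hψ⟩ := H10Coh.Tw.exists_epi_sigma hamp (isCoh_lev A J 𝔐 h𝔐 0) k₂
  obtain ⟨e⟩ := hL
  have hJ : PicF.IsInvertible (ClSub.idealMod J) := H17.InvertibleTensor.isInvertible_of_tensor_iso
    (ClSub.idealMod J) L (H10Coh.Tw.commIso _ _ ≪≫ e)
  haveI : (tw L).IsEquivalence := H17.FLI.DivExt.isEquivalence_flip e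
  haveI := isEquivalence_Tk (tw L) k
  let N := CohB1.tensorPow (ClSub.idealMod J) k
  have hN : PicF.IsInvertible N := H11Ample.isInvertible_tensorPow hJ k
  obtain ⟨u⟩ := nonempty_Tk_iso (L := L) k N
  obtain ⟨v⟩ := H10Coh.Tw.nonempty_tensorPow_inverse (H10Coh.Tw.commIso (ClSub.idealMod J) L ≪≫ e) hJ hamp.1 k
  obtain ⟨w⟩ := nonempty_Tk_iso (L := L) k (lev J 𝔐 0)
  haveI : Epi (ψ ≫ w.inv) := epi_comp ψ w.inv
  obtain ⟨φ, hφ, hφ0⟩ := exists_sum_lift (T := Tk (tw L) k) (u ≪≫ v) (levTr J 𝔐) (hlift k hk) (ψ ≫ w.inv)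
  have hE : FlatMod.IsFinLocFree (∐ fun _ : Fin r => N) :=
    H16Derived.KFlat.Stalk.isFinLocFree_sigma _ fun _ => H23Para.isFinLocFree_of_isInvertible hN
  obtain ⟨Φ, hΦ⟩ := exists_hom_of_family J 𝔐 φ hφ
  haveI := hφ0
  exact ⟨r, N, _, v, Φ, hN, H11Ample.isInvertible_tensorPow hamp.1 k,
    epi_app_of_zero J 𝔐 φ h𝔐 (H16Derived.KFlat.Stalk.isCoh_of_isFinLocFree hE) Φ hΦ⟩

end Groth.Agent.H3Lef
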