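import Groth.Agent.H3Lef.Gen
import Groth.Agent.H3Lef.FormalHom
import Groth.Agent.H22Alg.PullVb
import Groth.Agent.H11Leff.FreeNhd

/-!
# Algebraisation of locally free systems along an ample divisor
-/

set_option autoImplicit false
set_option linter.style.haveILetI false
set_option linter.unusedSectionVars false
set_option backward.isDefEq.respectTransparency false

universe u

open CategoryTheory CategoryTheory.Limits AlgebraicGeometry Opposite TopologicalSpace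

namespace Groth.Agent.H3Lef

section Systems

variable {𝔛 : FSch.Sys.{u}}

/-- The kernels of a levelwise epimorphism of locally free systems form a system. -/
theorem exists_kernel_sys {𝔈 𝔐 : FSch.ModSys 𝔛} (h𝔈 : LefX.LevelwiseFinLocFree 𝔈)
    (h𝔐 : LefX.LevelwiseFinLocFree 𝔐) (Φ : 𝔈 ⟶ 𝔐) (hΦ : ∀ n, Epi (Φ.app n)) :
    ∃ (𝔎 : FSch.ModSys 𝔛) (κ : 𝔎 ⟶ 𝔈), LefX.LevelwiseFinLocFree 𝔎 ∧
      ∀ n, ∃ w : κ.app n ≫ Φ.app n = 0, (ShortComplex.mk (κ.app n) (Φ.app n) w).ShortExact := by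
  haveI := hΦ
  have hS : ∀ n, (ShortComplex.mk (kernel.ι (Φ.app n)) (Φ.app n) (kernel.condition _)).ShortExact := fun n =>
    { exact := ShortComplex.exact_of_f_is_kernel _ (kernelIsKernel (Φ.app n)) }
  haveI : ∀ n, (Scheme.Modules.pullback (𝔛.ι n)).Additive := fun n =>
    (Scheme.Modules.pullbackPushforwardAdjunction (𝔛.ι n)).left_adjoint_additive
  have hP := fun n => H22Alg.KModel.shortExact_pullback (𝔛.ι n) (hS (n + 1)) (h𝔐 (n + 1))
  have h1 : ∀ n, ((Scheme.Modules.pullback (𝔛.ι n)).map (kernel.ι (Φ.app (n + 1))) ≫ (𝔈.e n).hom) ≫ Φ.app n = 0 :=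
    fun n => by
      rw [Category.assoc, ← Φ.comm n, ← Category.assoc, ← Functor.map_comp, kernel.condition, Functor.map_zero,
        zero_comp]
  have h2 : ∀ n, (kernel.ι (Φ.app n) ≫ (𝔈.e n).inv) ≫ (Scheme.Modules.pullback (𝔛.ι n)).map (Φ.app (n + 1)) = 0 :=
    fun n => (cancel_mono (𝔐.e n).hom).1 (by
      rw [Category.assoc, Category.assoc, Φ.comm n, Iso.inv_hom_id_assoc, kernel.condition, zero_comp])
  have h3 : ∀ n, ∃ b : kernel (Φ.app n) ⟶ (Scheme.Modules.pullback (𝔛.ι n)).obj (kernel (Φ.app (n + 1))),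
      b ≫ (Scheme.Modules.pullback (𝔛.ι n)).map (kernel.ι (Φ.app (n + 1))) = kernel.ι (Φ.app n) ≫ (𝔈.e n).inv :=
    fun n => ⟨(hP n).fIsKernel.lift (KernelFork.ofι _ (h2 n)),
      (hP n).fIsKernel.fac (KernelFork.ofι _ (h2 n)) WalkingParallelPair.zero⟩
  choose b hb using h3
  let a := fun n => kernel.lift (Φ.app n) _ (h1 n)
  have hab : ∀ n, a n ≫ b n = 𝟙 _ := fun n => by
    haveI : Mono ((Scheme.Modules.pullback (𝔛.ι n)).map (kernel.ι (Φ.app (n + 1)))) := (hP n).mono_f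
    rw [← cancel_mono ((Scheme.Modules.pullback (𝔛.ι n)).map (kernel.ι (Φ.app (n + 1)))), Category.assoc, hb,
      ← Category.assoc, kernel.lift_ι, Category.assoc, Iso.hom_inv_id, Category.comp_id, Category.id_comp]
  have hba : ∀ n, b n ≫ a n = 𝟙 _ := fun n => by
    rw [← cancel_mono (kernel.ι (Φ.app n)), Category.assoc, kernel.lift_ι, ← Category.assoc, hb, Category.assoc,
      Iso.inv_hom_id, Category.comp_id, Category.id_comp]
  refine ⟨⟨fun n => kernel (Φ.app n), fun n => ⟨a n, b n, hab n, hba n⟩⟩,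
    ⟨fun n => kernel.ι (Φ.app n), fun n => (kernel.lift_ι _ _ _).symm⟩,
    fun n => H10Coh.Tw.isFinLocFree_kernel _ (h𝔈 n) (h𝔐 n), fun n => ⟨_, hS n⟩⟩

/-- A cokernel whose inverse images present a system completes to it. -/
theorem nonempty_iso_cokernel {X : Scheme.{u}} (c : ∀ n, 𝔛.X n ⟶ X)
    (T : ∀ n, Scheme.Modules.pullback (c (n + 1)) ⋙ Scheme.Modules.pullback (𝔛.ι n) ≅ Scheme.Modules.pullback (c n))
    {E₁ E₀ : X.Modules} (φ : E₁ ⟶ E₀) (𝔐 𝔎 : FSch.ModSys 𝔛) (Φ : H24FMod.pbSys c T E₀ ⟶ 𝔐)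
    (Φ₁ : H24FMod.pbSys c T E₁ ⟶ 𝔎) (κ : 𝔎 ⟶ H24FMod.pbSys c T E₀)
    (hφ : ∀ n, Φ₁.app n ≫ κ.app n = (Scheme.Modules.pullback (c n)).map φ) (h₁ : ∀ n, Epi (Φ₁.app n))
    (hS : ∀ n, ∃ w : κ.app n ≫ Φ.app n = 0, (ShortComplex.mk (κ.app n) (Φ.app n) w).ShortExact) :
    Nonempty (H24FMod.pbSys c T (cokernel φ) ≅ 𝔐) := by
  haveI : ∀ n, (Scheme.Modules.pullback (c n)).Additive := fun n =>
    (Scheme.Modules.pullbackPushforwardAdjunction (c n)).left_adjoint_additive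
  haveI : ∀ n, (Scheme.Modules.pullback (c n)).IsLeftAdjoint := fun n =>
    (Scheme.Modules.pullbackPushforwardAdjunction (c n)).isLeftAdjoint
  haveI := h₁
  choose w hS using hS
  have hz : ∀ n, (Scheme.Modules.pullback (c n)).map φ ≫ Φ.app n = 0 := fun n => by
    rw [← hφ, Category.assoc, w, comp_zero]
  let hc := fun n => CokernelCofork.mapIsColimit _ (cokernelIsCokernel φ) (Scheme.Modules.pullback (c n))
  have ha : ∀ n, ∃ a : (H24FMod.pbSys c T (cokernel φ)).F n ⟶ 𝔐.F n,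
      (Scheme.Modules.pullback (c n)).map (cokernel.π φ) ≫ a = Φ.app n := fun n =>
    ⟨(hc n).desc (CokernelCofork.ofπ _ (hz n)),
      (hc n).fac (CokernelCofork.ofπ _ (hz n)) WalkingParallelPair.one⟩
  choose a ha using ha
  haveI : ∀ n, Epi ((Scheme.Modules.pullback (c n)).map (cokernel.π φ)) := fun n => inferInstance
  have hκ : ∀ n, κ.app n ≫ (Scheme.Modules.pullback (c n)).map (cokernel.π φ) = 0 := fun n =>
    (cancel_epi (Φ₁.app n)).1 (by rw [← Category.assoc, hφ, ← Functor.map_comp, cokernel.condition, Functor.map_zero,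
      comp_zero])
  have hiso : ∀ n, IsIso (a n) := fun n => by
    have hb : ∃ b, Φ.app n ≫ b = (Scheme.Modules.pullback (c n)).map (cokernel.π φ) :=
      ⟨(hS n).gIsCokernel.desc (CokernelCofork.ofπ _ (hκ n)),
        (hS n).gIsCokernel.fac (CokernelCofork.ofπ _ (hκ n)) WalkingParallelPair.one⟩
    obtain ⟨b, hb⟩ := hb
    haveI : Epi (Φ.app n) := (hS n).epi_g
    exact ⟨b, (cancel_epi ((Scheme.Modules.pullback (c n)).map (cokernel.π φ))).1
        (((Category.assoc _ _ _).symm.trans ((congrArg (· ≫ b) (ha n)).trans hb)).trans (Category.comp_id _).symm),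
      (cancel_epi (Φ.app n)).1
        (((Category.assoc _ _ _).symm.trans ((congrArg (· ≫ a n) hb).trans (ha n))).trans (Category.comp_id _).symm)⟩
  refine H11Leff.nonempty_iso_of_levelwise ⟨a, fun n => ?_⟩ hiso
  haveI : Epi ((Scheme.Modules.pullback (𝔛.ι n)).map ((Scheme.Modules.pullback (c (n + 1))).map (cokernel.π φ))) := by
    haveI := (Scheme.Modules.pullbackPushforwardAdjunction (𝔛.ι n)).isLeftAdjoint
    infer_instance
  refine (cancel_epi ((Scheme.Modules.pullback (𝔛.ι n)).map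
    ((Scheme.Modules.pullback (c (n + 1))).map (cokernel.π φ)))).1 ?_
  rw [← Category.assoc, ← Functor.map_comp, ha (n + 1), Φ.comm n]
  refine Eq.trans ?_ (Category.assoc _ _ _)
  rw [← ha n]
  refine (Category.assoc _ _ _).symm.trans (congrArg (· ≫ a n) ?_)
  exact ((T n).hom.naturality (cokernel.π φ)).symm

theorem exists_epi_congr {S S' 𝔐 : FSch.ModSys 𝔛} (h : S = S') (Φ : S ⟶ 𝔐) (hΦ : ∀ n, Epi (Φ.app n)) :
    ∃ Φ' : S' ⟶ 𝔐, ∀ n, Epi (Φ'.app n) := by
  subst h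
  exact ⟨Φ, hΦ⟩

end Systems

variable {X : Scheme.{u}} {L : X.Modules} (J : X.IdealSheafData) (A : Type u) [CommRing A] [IsNoetherianRing A]
  [X.Over (Spec (CommRingCat.of A))] [IsProper (X ↘ Spec (CommRingCat.of A))]

include A in
/-- Locally free systems along an ample divisor come from a neighbourhood. -/
theorem exists_algebraization (hamp : CohB1.IsAmple L) (hL : ClSub.IsInverseOf L (ClSub.idealMod J))
    (hV : NegVanish J (ClSub.idealMod J)) (hF : ∀ D : X.Modules, Coh.IsCoh D → Lef.HomToFormalBijective J D)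
    (𝔐 : FSch.ModSys (FSch.completionAlong X J)) (h𝔐 : LefX.LevelwiseFinLocFree 𝔐) :
    ∃ (U : X.Opens) (E : (U : Scheme.{u}).Modules), (J.support : Set X) ⊆ (U : Set X) ∧
      FlatMod.IsFinLocFree E ∧ Nonempty (FSch.completionMod J ((Scheme.Modules.pushforward U.ι).obj E) ≅ 𝔐) := by
  haveI : IsLocallyNoetherian X := LocallyOfFiniteType.isLocallyNoetherian (X ↘ Spec (CommRingCat.of A))
  obtain ⟨r, N, P, e, Φ, hN, hP, hΦ⟩ := exists_epi_completion J A hamp hL hV 𝔐 h𝔐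
  obtain ⟨Φ, hΦ⟩ := exists_epi_congr (H24Depth2.completionMod_eq J _) Φ hΦ
  have hE₀ : FlatMod.IsFinLocFree (∐ fun _ : Fin r => N) :=
    H16Derived.KFlat.Stalk.isFinLocFree_sigma _ fun _ => H23Para.isFinLocFree_of_isInvertible hN
  have h𝔈 : LefX.LevelwiseFinLocFree (H24FMod.pbSys (FSch.completionToX X J) (cT J) (∐ fun _ : Fin r => N)) := fun n =>
    H16Derived.KFlat.Stalk.isFinLocFree_pullback _ hE₀
  obtain ⟨𝔎, κ, h𝔎, hS⟩ := exists_kernel_sys h𝔈 h𝔐 Φ hΦ
  obtain ⟨r', N', P', e', Φ₁, hN', -, hΦ₁⟩ := exists_epi_completion J A hamp hL hV 𝔎 h𝔎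
  have hE₁ : Coh.IsCoh (∐ fun _ : Fin r' => N') := H16Derived.KFlat.Stalk.isCoh_of_isFinLocFree
    (H16Derived.KFlat.Stalk.isFinLocFree_sigma _ fun _ => H23Para.isFinLocFree_of_isInvertible hN')
  obtain ⟨Φ₁, hΦ₁⟩ := exists_epi_congr (H24Depth2.completionMod_eq J _) Φ₁ hΦ₁
  obtain ⟨φ, hφ⟩ := exists_hom_completion J (levLift_sigma J (fun _ : Fin r => N) fun _ =>
    levLift_invertible J hN hP e (hF _ (isCoh_tw hP _ hE₁))) (Φ₁ ≫ κ)
  obtain ⟨i⟩ := nonempty_iso_cokernel (FSch.completionToX X J) (cT J) φ 𝔐 𝔎 Φ Φ₁ κ hφ hΦ₁ hS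
  exact H11Leff.exists_locFree J (cokernel φ)
    (H10Coh.isCoh_cokernel φ hE₁.1 (H16Derived.KFlat.Stalk.isCoh_of_isFinLocFree hE₀)) 𝔐 h𝔐
    (eqToIso (H24Depth2.completionMod_eq J (cokernel φ)) ≪≫ i)

end Groth.Agent.H3Lef
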