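import Groth.Agent.H3Lef.SysTower
import Groth.Agent.H3Lef.AmpleTwo
import Groth.Agent.S0051
import Groth.Agent.H10Coh.TensorBasics

/-!
# Twists of the levels of a system and the hypotheses of the lifting lemma
-/

set_option autoImplicit false
set_option linter.style.haveILetI false
set_option linter.unusedSectionVars false
set_option backward.isDefEq.respectTransparency false

universe u

open CategoryTheory CategoryTheory.Limits AlgebraicGeometry Opposite TopologicalSpace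

attribute [local instance 10000] Groth.Agent.H10Coh.hasSheafifyAb Groth.Agent.H10Coh.hasWeakSheafifyAb
  Groth.Agent.H10Coh.hasExtAb Groth.Agent.H10Coh.enoughInjAb

namespace Groth.Agent.H3Lef

variable {X : Scheme.{u}} {L M : X.Modules}

/-- An iterate of the twist is the twist by the power. -/
theorem nonempty_Tk_iso : ∀ (k : ℕ) (F : X.Modules),
    Nonempty ((Tk (tw L) k).obj F ≅ CohB1.tensorMod F (CohB1.tensorPow L k))
  | 0, F => ⟨(H10Coh.Tw.rightUnitIso F).symm⟩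
  | k + 1, F => by
    obtain ⟨e⟩ := nonempty_Tk_iso k ((tw L).obj F)
    exact ⟨e ≪≫ H10Coh.Tw.assoc F L (CohB1.tensorPow L k) ≪≫
      PicGrp.tensorModIso (Iso.refl F) (H10Coh.Tw.commIso L (CohB1.tensorPow L k))⟩

theorem nonempty_Tk_add (T : X.Modules ⥤ X.Modules) : ∀ (a b : ℕ) (F : X.Modules),
    Nonempty ((Tk T (a + b)).obj F ≅ (Tk T a).obj ((Tk T b).obj F))
  | a, 0, F => ⟨Iso.refl _⟩
  | a, b + 1, F => by
    obtain ⟨e⟩ := nonempty_Tk_add T a b (T.obj F)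
    exact ⟨e⟩

/-- Untwisting. -/
theorem nonempty_untwist (hL : PicF.IsInvertible L) (hM : PicF.IsInvertible M)
    (e : CohB1.tensorMod L M ≅ Coh.structureModule X) {m : ℕ} {F G : X.Modules}
    (i : F ≅ (Tk (tw L) m).obj G) : Nonempty (G ≅ CohB1.tensorMod F (CohB1.tensorPow M m)) := by
  obtain ⟨φ⟩ := H10Coh.Tw.nonempty_tensorPow_inverse e hL hM m
  obtain ⟨j⟩ := nonempty_Tk_iso (L := L) m G
  exact ⟨(H10Coh.Tw.rightUnitIso G).symm ≪≫ PicGrp.tensorModIso (Iso.refl G) φ.symm ≪≫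
    (H10Coh.Tw.assoc G _ _).symm ≪≫ PicGrp.tensorModIso (i ≪≫ j).symm (Iso.refl _)⟩

theorem isCoh_tw (hL : PicF.IsInvertible L) [IsLocallyNoetherian X] (F : X.Modules) (hF : Coh.IsCoh F) :
    Coh.IsCoh ((tw L).obj F) :=
  H11Ample.isCoh_tensor hF hL

variable (A : Type u) [CommRing A] [IsNoetherianRing A] [X.Over (Spec (CommRingCat.of A))]
  [IsProper (X ↘ Spec (CommRingCat.of A))]

include A in
theorem exists_twist_vanish (hamp : CohB1.IsAmple L) {F : X.Modules} (hF : Coh.IsCoh F) :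
    ∃ k₁ : ℕ, ∀ k : ℕ, k₁ ≤ k → Subsingleton (Coh.HH X ((Tk (tw L) k).obj F) 1) := by
  obtain ⟨n₀, h⟩ := (S0051.result A X (X ↘ Spec (CommRingCat.of A)) L hamp.1).1 hamp F hF
  refine ⟨n₀, fun k hk => ?_⟩
  obtain ⟨e⟩ := nonempty_Tk_iso (L := L) k F
  exact H22Alg.ESZ.subsingleton_HH_iso e.symm (h k hk 1 one_pos)

variable (J : X.IdealSheafData) (𝔐 : FSch.ModSys (FSch.completionAlong X J))

include A in
theorem isCoh_lev (h𝔐 : LefX.LevelwiseFinLocFree 𝔐) (n : ℕ) : Coh.IsCoh (lev J 𝔐 n) := by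
  haveI : IsLocallyNoetherian X := LocallyOfFiniteType.isLocallyNoetherian (X ↘ Spec (CommRingCat.of A))
  haveI : IsClosedImmersion (FSch.completionToX X J n) :=
    inferInstanceAs (IsClosedImmersion (J ^ (n + 1)).subschemeι)
  haveI : IsLocallyNoetherian ((FSch.completionAlong X J).X n) :=
    LocallyOfFiniteType.isLocallyNoetherian (FSch.completionToX X J n)
  exact H10Coh.isCoh_push_of_isFinite _ _ (H16Derived.KFlat.Stalk.isCoh_of_isFinLocFree (h𝔐 n))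

/-- The first cohomology of the negative twists of a bottom level vanishes eventually. -/
def NegVanish (J : X.IdealSheafData) (M : X.Modules) : Prop :=
  ∀ 𝔐 : FSch.ModSys (FSch.completionAlong X J), LefX.LevelwiseFinLocFree 𝔐 →
    ∃ m₀ : ℕ, ∀ m : ℕ, m₀ ≤ m → Subsingleton (Coh.HH X (CohB1.tensorMod (lev J 𝔐 0) (CohB1.tensorPow M m)) 1)

include A in
/-- Sections of a high twist of the bottom level lift to the system. -/
theorem exists_lift_lev (hamp : CohB1.IsAmple L) (hL : ClSub.IsInverseOf L (ClSub.idealMod J))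
    (hV : NegVanish J (ClSub.idealMod J)) (h𝔐 : LefX.LevelwiseFinLocFree 𝔐) :
    ∃ k₂, ∀ k, k₂ ≤ k → ∀ g : Coh.HH X ((Tk (tw L) k).obj (lev J 𝔐 0)) 0,
      ∃ f : ∀ n, Coh.HH X ((Tk (tw L) k).obj (lev J 𝔐 n)) 0,
        (∀ n, LeadFF.Hm ((Tk (tw L) k).map (levTr J 𝔐 n)) 0 (f (n + 1)) = f n) ∧ f 0 = g := by
  haveI : IsLocallyNoetherian X := LocallyOfFiniteType.isLocallyNoetherian (X ↘ Spec (CommRingCat.of A))
  obtain ⟨e⟩ := hL
  have hJ : PicF.IsInvertible (ClSub.idealMod J) := H17.InvertibleTensor.isInvertible_of_tensor_iso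
    (ClSub.idealMod J) L (H10Coh.Tw.commIso _ _ ≪≫ e)
  haveI := additive_tw (L := L) hamp.1
  haveI : (tw L).IsEquivalence := H17.FLI.DivExt.isEquivalence_flip e
  haveI : PreservesFiniteLimits (tw L) := inferInstance
  haveI : PreservesFiniteColimits (tw L) := inferInstance
  obtain ⟨𝕋, hQ, htr⟩ := exists_sysTower J 𝔐 h𝔐 hamp.1 hJ e
  obtain ⟨Q, tr, σ, to0, h1, h2, h3, h4, h5, h6⟩ := 𝕋
  cases hQ
  cases htr
  let 𝕋 : Tower (tw L) := ⟨lev J 𝔐, levTr J 𝔐, σ, to0, h1, h2, h3, h4, h5, h6⟩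
  obtain ⟨m₀, hm⟩ := hV 𝔐 h𝔐
  refine Tower.exists_lift 𝕋 A (isCoh_tw hamp.1) (isCoh_lev A J 𝔐 h𝔐)
    (exists_twist_vanish A hamp (isCoh_lev A J 𝔐 h𝔐 0)) fun k => ⟨m₀ + k, fun n hn => ?_⟩
  obtain ⟨i⟩ := 𝕋.nonempty_Tk_kernel n
  obtain ⟨c⟩ := nonempty_Tk_add (tw L) (n + 1 - k) k (kernel (𝕋.tr n))
  obtain ⟨d⟩ := nonempty_untwist hamp.1 hJ e
    (i ≪≫ eqToIso (by rw [Nat.sub_add_cancel (by omega : k ≤ n + 1)]) ≪≫ c)
  exact H22Alg.ESZ.subsingleton_HH_iso d.symm (hm (n + 1 - k) (by omega))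

end Groth.Agent.H3Lef
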