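import Groth.Agent.H3Lef.SecMult
import Groth.Agent.H29Blow.Stalk
import Groth.Agent.H25Euler.ParSh
import Groth.Agent.H25Par.TwistSeq
import Groth.Agent.H10Coh.SheafHom.Adj
import Groth.Agent.H16Derived.ProjFormula.ClosedImm
import Groth.Agent.H10Coh.Pn.Hyper
import Groth.Agent.H05EGA4.LefConn

/-!
# A local equation of an invertible ideal in terms of the inverse module
-/

set_option autoImplicit false
set_option linter.style.haveILetI false
set_option backward.isDefEq.respectTransparency false

universe u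

open CategoryTheory CategoryTheory.Limits AlgebraicGeometry Opposite TopologicalSpace
open Groth.Agent.H06Mod (stalkLin stalkLin_germ)
open Groth.Agent.H16Derived.KFlat.Stalk (tensor pair)

namespace Groth.Agent.H3Lef

variable {X : Scheme.{u}} (J : X.IdealSheafData) {L : X.Modules}

/-- The canonical section of the inverse of the ideal module. -/
noncomputable def canSec (e : CohB1.tensorMod L (ClSub.idealMod J) ≅ Coh.structureModule X) :
    Coh.structureModule X ⟶ L :=
  e.inv ≫ ParSh.twistMap J L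

theorem exists_generator {N : X.Modules} (hN : PicF.IsInvertible N) (x : X) :
    ∃ l : N.presheaf.stalk x, Function.Bijective fun r : X.presheaf.stalk x => r • l := by
  obtain ⟨V, e, hxV, he⟩ := H11Ample.exists_gen hN x
  exact ⟨_, he x hxV⟩

/-- The germ of one. -/
noncomputable def oneAt (x : X) : (Coh.structureModule X).presheaf.stalk x :=
  (Coh.structureModule X).presheaf.germ ⊤ x (show x ∈ (⊤ : X.Opens) from trivial) (H11Ample.one ⊤)

theorem bijective_oneAt (x : X) :
    Function.Bijective fun r : X.presheaf.stalk x => r • oneAt (X := X) x :=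
  H11Ample.isGen_one ⊤ x trivial

theorem secAt_eq (s : Coh.structureModule X ⟶ L) (x : X) : secAt s x = stalkLin s x (oneAt x) := by
  rw [oneAt, stalkLin_germ]
  rfl

/-- A local equation: regular, and the section is it times a generator. -/
theorem exists_equation (hL : PicF.IsInvertible L) (hJ : PicF.IsInvertible (ClSub.idealMod J))
    (e : CohB1.tensorMod L (ClSub.idealMod J) ≅ Coh.structureModule X) (x : X) :
    ∃ (t : X.presheaf.stalk x) (l : L.presheaf.stalk x),
      Function.Bijective (fun r : X.presheaf.stalk x => r • l) ∧ secAt (canSec J e) x = t • l ∧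
      (∀ c, t * c = 0 → c = 0) ∧
      ∀ a : X.presheaf.stalk x, (∃ b, a = t * b) ↔
        stalkLin (ClSub.toSubscheme J) x (a • oneAt x) = 0 := by
  obtain ⟨l, hl⟩ := exists_generator hL x
  obtain ⟨i, hi⟩ := exists_generator hJ x
  obtain ⟨r, hr⟩ := (bijective_oneAt x).2 (stalkLin (ClSub.idealModι J) x i)
  beta_reduce at hr
  -- the stalk of the tensor product is generated by the pair
  have hp : Function.Bijective fun c : X.presheaf.stalk x => c • pair L (ClSub.idealMod J) x l i := by
    have h1 := (bijective_pair (L := ClSub.idealMod J) L x hi).comp hl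
    refine (congrArg Function.Bijective (funext fun c => ?_)).mp h1
    show pair L (ClSub.idealMod J) x (c • l) i = c • pair L (ClSub.idealMod J) x l i
    exact congrFun (congrArg DFunLike.coe ((H16Derived.KFlat.Stalk.pairLin L (ClSub.idealMod J) x).map_smul c l)) i
  obtain ⟨w, hw⟩ := hp.2 (stalkLin e.inv x (oneAt x))
  beta_reduce at hw
  have hwu : IsUnit w := by
    obtain ⟨w', hw'⟩ := (bijective_oneAt x).2 (stalkLin e.hom x (pair L (ClSub.idealMod J) x l i))
    beta_reduce at hw'
    refine IsUnit.of_mul_eq_one w' ((bijective_oneAt x).1 ?_)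
    beta_reduce
    rw [mul_smul, hw', ← map_smul, hw, ← stalkLin_comp, e.inv_hom_id, stalkLin_id, one_smul]
  let T := (DCoh.tensorBi (X := X)).obj L
  -- the unitor is a unit on the generator
  obtain ⟨u, hu⟩ := hl.2 (stalkLin (SecTwist.unitorR L).hom x (pair L (Coh.structureModule X) x l (oneAt x)))
  beta_reduce at hu
  have huu : IsUnit u := by
    have h1 := (bijective_pair (L := Coh.structureModule X) L x (bijective_oneAt x)).2
      (stalkLin (SecTwist.unitorR L).inv x l)
    obtain ⟨g, hg⟩ := h1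
    obtain ⟨c, rfl⟩ := hl.2 g
    refine IsUnit.of_mul_eq_one c (hl.1 ?_)
    have h2 : stalkLin (SecTwist.unitorR L).hom x (pair L (Coh.structureModule X) x (c • l) (oneAt x)) = l := by
      have h3 := congrArg (stalkLin (SecTwist.unitorR L).hom x) hg
      rw [← stalkLin_comp, (SecTwist.unitorR L).inv_hom_id, stalkLin_id] at h3
      exact h3
    rw [show pair L (Coh.structureModule X) x (c • l) (oneAt x) = c • pair L (Coh.structureModule X) x l (oneAt x) from
      congrFun (congrArg DFunLike.coe ((H16Derived.KFlat.Stalk.pairLin L (Coh.structureModule X) x).map_smul c l))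
        (oneAt x), map_smul, ← hu, smul_smul] at h2
    beta_reduce
    rw [mul_comm, h2, one_smul]
  have hmap : stalkLin (T.map (ClSub.idealModι J)) x (pair L (ClSub.idealMod J) x l i) =
      pair L (Coh.structureModule X) x l (stalkLin (ClSub.idealModι J) x i) := by
    obtain ⟨⟨U, m, n⟩, hU, rfl, rfl⟩ := H16Derived.KFlat.Stalk.exists_germ₂ L (ClSub.idealMod J) x l i
    erw [H16Derived.KFlat.Stalk.pair_germ, stalkLin_germ, stalkLin_germ, H16Derived.KFlat.Stalk.pair_germ]
    exact congrArg _ (H10Coh.SheafHom.map_tensorSect (ClSub.idealModι J) U m n)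
  have hs : secAt (canSec J e) x = (w * (r * u)) • l := by
    rw [secAt_eq, canSec, stalkLin_comp, ← hw, map_smul, ParSh.twistMap, stalkLin_comp]
    rw [show stalkLin (KoszTw.tensorMap (𝟙 L) (ClSub.idealModι J)) x (pair L (ClSub.idealMod J) x l i) =
      pair L (Coh.structureModule X) x l (r • oneAt x) by
        rw [H25Par.tensorMap_left, hr]; exact hmap]
    rw [show pair L (Coh.structureModule X) x l (r • oneAt x) = r • pair L (Coh.structureModule X) x l (oneAt x) from
      (H16Derived.KFlat.Stalk.pairLin L (Coh.structureModule X) x l).map_smul r (oneAt x), map_smul, ← hu,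
      smul_smul, smul_smul, mul_assoc]
  have hreg : ∀ c, r * c = 0 → c = 0 := fun c hc => by
    refine hi.1 ?_
    beta_reduce
    rw [zero_smul]
    refine (H06Mod.stalk_injective _ (H10Coh.Hyper.idealSeq_shortExact J) x) ?_
    show stalkLin (ClSub.idealModι J) x (c • i) = stalkLin (ClSub.idealModι J) x 0
    rw [map_smul, ← hr, smul_smul, mul_comm, hc, zero_smul, map_zero]
  refine ⟨w * (r * u), l, hl, hs, fun c hc => ?_, fun a => ?_⟩
  · obtain ⟨w₁, rfl⟩ := hwu
    obtain ⟨u₁, rfl⟩ := huu
    refine hreg c ?_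
    rw [show r * c = ((↑w₁⁻¹ * ↑w₁ : X.presheaf.stalk x) * (↑u₁⁻¹ * ↑u₁)) * (r * c) by
      rw [Units.inv_mul, Units.inv_mul, one_mul, one_mul]]
    rw [show ((↑w₁⁻¹ * ↑w₁ : X.presheaf.stalk x) * (↑u₁⁻¹ * ↑u₁)) * (r * c) =
      (↑w₁⁻¹ * ↑u₁⁻¹) * (↑w₁ * (r * ↑u₁) * c) by ring, hc, mul_zero]
  · have hex := H06Mod.stalk_exact _ (H10Coh.Hyper.idealSeq_shortExact J) x
    constructor
    · rintro ⟨b, rfl⟩
      refine (hex _).2 ⟨(w * u * b) • i, ?_⟩
      show stalkLin (ClSub.idealModι J) x ((w * u * b) • i) = _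
      rw [map_smul, ← hr, smul_smul]
      exact congrArg (fun z => z • oneAt x) (by ring)
    · intro h
      obtain ⟨z, hz⟩ := (hex _).1 h
      obtain ⟨d, rfl⟩ := hi.2 z
      have hd : a = d * r := (bijective_oneAt x).1 (by
        show a • oneAt x = (d * r) • oneAt x
        rw [mul_smul, hr]
        exact hz.symm.trans (map_smul (stalkLin (ClSub.idealModι J) x) d i))
      obtain ⟨w₁, rfl⟩ := hwu
      obtain ⟨u₁, rfl⟩ := huu
      exact ⟨d * ↑w₁⁻¹ * ↑u₁⁻¹, by
        rw [hd, show (↑w₁ : X.presheaf.stalk x) * (r * ↑u₁) * (d * ↑w₁⁻¹ * ↑u₁⁻¹) =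
          d * r * ((↑w₁ * ↑w₁⁻¹) * (↑u₁ * ↑u₁⁻¹)) by ring, Units.mul_inv, Units.mul_inv, mul_one, mul_one]⟩

theorem pushStalk_toSubscheme (d : J.subscheme) (a : X.presheaf.stalk (J.subschemeι d)) :
    H16Derived.ProjFormula.pushStalk J.subschemeι (Coh.structureModule J.subscheme) d
        (stalkLin (ClSub.toSubscheme J) (J.subschemeι d) (a • oneAt (J.subschemeι d))) =
      (J.subschemeι.stalkMap d).hom a • oneAt d := by
  rw [map_smul, H16Derived.ProjFormula.pushStalk_smul, oneAt, stalkLin_germ]
  erw [H16Derived.ProjFormula.pushStalk_germ]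
  refine congrArg ((J.subschemeι.stalkMap d).hom a • ·) ?_
  exact congrArg ((Coh.structureModule J.subscheme).presheaf.germ ⊤ d trivial) (map_one (J.subschemeι.app ⊤).hom)

theorem toSubscheme_smul_eq_zero_iff (d : J.subscheme) (b : X.presheaf.stalk (J.subschemeι d)) :
    (J.subschemeι.stalkMap d).hom b = 0 ↔
      stalkLin (ClSub.toSubscheme J) (J.subschemeι d) (b • oneAt (J.subschemeι d)) = 0 := by
  have e := pushStalk_toSubscheme J d b
  have inj := (H16Derived.ProjFormula.pushStalk_bijective J.subschemeι (Coh.structureModule J.subscheme) d).1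
  refine ⟨fun h => inj (e.trans ((congrArg (· • oneAt d) h).trans ((zero_smul _ _).trans (map_zero _).symm))),
    fun h => (bijective_oneAt d).1 ?_⟩
  exact (e.symm.trans ((congrArg _ h).trans (map_zero _))).trans (zero_smul _ _).symm

/-- The ideal at a point of the subscheme is generated by the local equation. -/
theorem map_ideal_eq_span {x : X} (hx : ∃ d₀, J.subschemeι d₀ = x) {t : X.presheaf.stalk x}
    (ht : ∀ a : X.presheaf.stalk x, (∃ b, a = t * b) ↔ stalkLin (ClSub.toSubscheme J) x (a • oneAt x) = 0)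
    (V : X.affineOpens) (hxV : x ∈ V.1) :
    (J.ideal V).map (X.presheaf.germ V.1 x hxV).hom = Ideal.span {t} := by
  obtain ⟨d₀, rfl⟩ := hx
  refine Ideal.ext fun b => ?_
  rw [← H29Blow.ker_stalkMap_subschemeι J d₀ V hxV, RingHom.mem_ker, Ideal.mem_span_singleton,
    ← show (∃ c, b = t * c) ↔ t ∣ b from Iff.rfl, ht b]
  exact toSubscheme_smul_eq_zero_iff J d₀ b

/-- The kernels of the stalk maps of the powers are powers of the local equation. -/
theorem ker_stalkMap_pow {x : X} {t : X.presheaf.stalk x}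
    (ht : ∀ a : X.presheaf.stalk x, (∃ b, a = t * b) ↔ stalkLin (ClSub.toSubscheme J) x (a • oneAt x) = 0)
    (k : ℕ) (d : (J ^ (k + 1)).subscheme) (hd : (J ^ (k + 1)).subschemeι d = x) (a : X.presheaf.stalk x) :
    (((J ^ (k + 1)).subschemeι.stalkMap d).hom
      ((X.presheaf.stalkCongr (.of_eq hd)).inv a) = 0) ↔ ∃ b, a = t ^ (k + 1) * b := by
  subst hd
  obtain ⟨V, hV, hxV, -⟩ := exists_isAffineOpen_mem_and_subset (X := X) (x := (J ^ (k + 1)).subschemeι d)
    (U := ⊤) trivial
  have h := H29Blow.ker_stalkMap_subschemeι (J ^ (k + 1)) d ⟨V, hV⟩ hxV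
  have hmem : (J ^ (k + 1)).subschemeι d ∈ Set.range J.subschemeι := by
    rw [Scheme.IdealSheafData.range_subschemeι, ← H05EGA4.LefConn.range_pow J k]
    exact ⟨d, rfl⟩
  obtain ⟨d₀, hd₀⟩ := hmem
  have hone : (J.ideal ⟨V, hV⟩).map (X.presheaf.germ V _ hxV).hom = Ideal.span {t} :=
    map_ideal_eq_span J ⟨d₀, hd₀⟩ ht ⟨V, hV⟩ hxV
  rw [Scheme.IdealSheafData.ideal_pow, Pi.pow_apply, Ideal.map_pow, hone, Ideal.span_singleton_pow] at h
  simp only [TopCat.Presheaf.stalkCongr]
  rw [show (X.presheaf.stalkSpecializes (Inseparable.specializes (Inseparable.of_eq rfl).symm)) = 𝟙 _ from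
    TopCat.Presheaf.stalkSpecializes_refl _ _]
  rw [← RingHom.mem_ker]
  show a ∈ RingHom.ker _ ↔ _
  rw [h, Ideal.mem_span_singleton]
  rfl

end Groth.Agent.H3Lef
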