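import Groth.Agent.H3Lef.Tower
import Groth.Agent.H16Derived.KFlat.SheafTensor
import Groth.Agent.H3Cyc.SymSplit
import Groth.Agent.H29Omega.ConormalDiffStalk
import Groth.Agent.H29Omega.ConormalStalk
import Groth.Agent.H29Omega.ConormalSplit
import Groth.Agent.H17.FLI.DivExt
import Groth.Agent.H25AbCube.DualInverse
import Groth.Agent.H23KS.Indec

/-!
# Multiplication by a section of an invertible module, and towers from stalkwise conditions
-/

set_option autoImplicit false
set_option linter.style.haveILetI false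
set_option backward.isDefEq.respectTransparency false

universe u

open CategoryTheory CategoryTheory.Limits AlgebraicGeometry Opposite TopologicalSpace
open Groth.Agent.H06Mod (stalkLin stalkLin_germ)
open Groth.Agent.H16Derived.KFlat.Stalk (tensor tensorSect pair pair_germ)

namespace Groth.Agent.H3Lef

variable {X : Scheme.{u}} {L : X.Modules}

/-- `- ⊗ L`. -/
noncomputable abbrev tw (L : X.Modules) : X.Modules ⥤ X.Modules := (DCoh.tensorBi (X := X)).flip.obj L

variable (s : Coh.structureModule X ⟶ L)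

/-- The restriction of the section. -/
noncomputable def secOn (U : X.Opens) : Γ(L, U) := s.app U (1 : Γ(X, U))

theorem secOn_res {U V : X.Opens} (i : V ⟶ U) : secOn s V = L.presheaf.map i.op (secOn s U) :=
  (congrArg (s.app V) (map_one (X.presheaf.map i.op).hom).symm).trans
    (congr($(s.mapPresheaf.naturality i.op) (1 : Γ(X, U))))

/-- The germ of the section. -/
noncomputable def secAt (x : X) : L.presheaf.stalk x :=
  L.presheaf.germ ⊤ x (show x ∈ (⊤ : X.Opens) from trivial) (secOn s ⊤)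

theorem germ_secOn (U : X.Opens) (x : X) (h : x ∈ U) : L.presheaf.germ U x h (secOn s U) = secAt s x := by
  rw [secOn_res s (homOfLE (le_top : U ≤ ⊤)), TopCat.Presheaf.germ_res_apply]
  rfl

/-- `G ⟶ G ⊗ L`, `m ↦ m ⊗ s`. -/
noncomputable def mulSec (G : X.Modules) : G ⟶ (tw L).obj G where
  val := PresheafOfModules.homMk
    { app := fun U => AddCommGrpCat.ofHom
        { toFun := fun m => (tensorSect U.unop (show Γ(G, U.unop) from m) (secOn s U.unop) : Γ(tensor G L, U.unop))
          map_zero' := by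
            have h := H16Derived.KFlat.Stalk.tensorSect_smul_left (0 : Γ(X, U.unop)) (0 : Γ(G, U.unop)) (secOn s U.unop)
            rw [zero_smul, zero_smul] at h
            exact h
          map_add' := fun a b => H16Derived.KFlat.Stalk.tensorSect_add_left (show Γ(G, U.unop) from a) _ _ }
      naturality := fun U V i => by
        ext m
        show tensorSect V.unop (G.presheaf.map i (show Γ(G, U.unop) from m)) (secOn s V.unop) = _
        rw [secOn_res s i.unop]
        exact H16Derived.KFlat.Stalk.tensorSect_res i.unop (show Γ(G, U.unop) from m) _ }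
    fun U r m => H16Derived.KFlat.Stalk.tensorSect_smul_left (show Γ(X, U.unop) from r) (show Γ(G, U.unop) from m) _

/-- `g ⊗ b` in the stalk of the twist. -/
noncomputable def pT (G : X.Modules) (x : X) (g : G.presheaf.stalk x) (b : L.presheaf.stalk x) :
    ((tw L).obj G).presheaf.stalk x :=
  pair G L x g b

theorem pT_eq (G : X.Modules) (x : X) (g : G.presheaf.stalk x) (b : L.presheaf.stalk x) :
    pT G x g b = pair G L x g b := rfl

theorem stalkLin_mulSec (G : X.Modules) (x : X) (g : G.presheaf.stalk x) :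
    stalkLin (mulSec s G) x g = pT G x g (secAt s x) := by
  obtain ⟨U, h, m, rfl⟩ := G.presheaf.exists_germ_eq g
  rw [stalkLin_germ, ← germ_secOn s U x h, pT_eq, pair_germ]
  rfl

theorem stalkLin_tw {G G' : X.Modules} (φ : G ⟶ G') (x : X) (a : G.presheaf.stalk x) (b : L.presheaf.stalk x) :
    stalkLin ((tw L).map φ) x (pT G x a b) = pT G' x (stalkLin φ x a) b := by
  obtain ⟨⟨U, m, n⟩, hU, rfl, rfl⟩ := H16Derived.KFlat.Stalk.exists_germ₂ G L x a b
  rw [pT_eq, pT_eq]
  erw [pair_germ, stalkLin_germ, stalkLin_germ, pair_germ]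
  exact congrArg _ (H3Cyc.SymSplit.map_tensorSect_left φ U m n)

/-- Pairing with a generator. -/
theorem bijective_pair (G : X.Modules) (x : X) {e : L.presheaf.stalk x}
    (he : Function.Bijective fun r : X.presheaf.stalk x => r • e) :
    Function.Bijective fun g : G.presheaf.stalk x => pT G x g e := by
  show Function.Bijective fun g : G.presheaf.stalk x => pair G L x g e
  let ε : X.presheaf.stalk x ≃ₗ[X.presheaf.stalk x] L.presheaf.stalk x :=
    LinearEquiv.ofBijective (LinearMap.toSpanSingleton _ _ e) he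
  have h : (fun g : G.presheaf.stalk x => pair G L x g e) =
      H16Derived.KFlat.Stalk.toStalk G L x ∘ (fun g =>
        TensorProduct.congr (LinearEquiv.refl _ _) ε ((TensorProduct.rid (X.presheaf.stalk x) _).symm g)) := by
    funext g
    have hε : ε 1 = e := one_smul (X.presheaf.stalk x) e
    simp only [Function.comp_apply, TensorProduct.rid_symm_apply, TensorProduct.congr_tmul, LinearEquiv.refl_apply, hε,
      H16Derived.KFlat.Stalk.toStalk_tmul]
  rw [h]
  exact (H16Derived.KFlat.Stalk.toStalk_bijective G L x).comp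
    ((TensorProduct.congr (LinearEquiv.refl _ _) ε).bijective.comp (TensorProduct.rid _ _).symm.bijective)

theorem pair_smul_right (G : X.Modules) (x : X) (c : X.presheaf.stalk x) (g : G.presheaf.stalk x)
    (e : L.presheaf.stalk x) : pT G x g (c • e) = pT G x (c • g) e := by
  show H16Derived.KFlat.Stalk.pairLin G L x g (c • e) = H16Derived.KFlat.Stalk.pairLin G L x (c • g) e
  rw [map_smul, map_smul, LinearMap.smul_apply]

theorem stalkLin_comp {A B C : X.Modules} (f : A ⟶ B) (g : B ⟶ C) (x : X) (a : A.presheaf.stalk x) :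
    stalkLin (f ≫ g) x a = stalkLin g x (stalkLin f x a) :=
  ConcreteCategory.congr_hom ((TopCat.Presheaf.stalkFunctor Ab x).map_comp f.mapPresheaf g.mapPresheaf) a

theorem stalkLin_id {A : X.Modules} (x : X) (a : A.presheaf.stalk x) : stalkLin (𝟙 A) x a = a :=
  congr($(((DerSch.stalkFunctor X x).map_id A)) a)

/-- The stalkwise conditions at a point. -/
def StalkCond {Q : ℕ → X.Modules} (tr : ∀ n, Q (n + 1) ⟶ Q n) (x : X) : Prop :=
  ∃ (t : X.presheaf.stalk x) (e : L.presheaf.stalk x),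
    Function.Bijective (fun r : X.presheaf.stalk x => r • e) ∧ secAt s x = t • e ∧
    (∀ n, Function.Surjective (stalkLin (tr n) x)) ∧
    (∀ n (m : (Q (n + 1)).presheaf.stalk x), stalkLin (tr n) x m = 0 ↔
      ∃ m' : (Q (n + 1)).presheaf.stalk x, m = t ^ (n + 1) • m') ∧
    (∀ n (m : (Q (n + 1)).presheaf.stalk x), t • m = 0 ↔
      ∃ m' : (Q (n + 1)).presheaf.stalk x, m = t ^ (n + 1) • m')

/-- The composite to the bottom. -/
noncomputable def toBot {Q : ℕ → X.Modules} (tr : ∀ n, Q (n + 1) ⟶ Q n) : ∀ n, Q n ⟶ Q 0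
  | 0 => 𝟙 _
  | n + 1 => tr n ≫ toBot tr n

theorem StalkCond.toBot {Q : ℕ → X.Modules} {tr : ∀ n, Q (n + 1) ⟶ Q n} {x : X}
    {t : X.presheaf.stalk x} (hs : ∀ n, Function.Surjective (stalkLin (tr n) x))
    (hk : ∀ n (m : (Q (n + 1)).presheaf.stalk x), stalkLin (tr n) x m = 0 ↔
      ∃ m' : (Q (n + 1)).presheaf.stalk x, m = t ^ (n + 1) • m') :
    ∀ n, Function.Surjective (stalkLin (H3Lef.toBot tr n) x) ∧
      ∀ m : (Q n).presheaf.stalk x, stalkLin (H3Lef.toBot tr n) x m = 0 ↔
        ∃ m' : (Q n).presheaf.stalk x, m = t • m'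
  | 0 => by
    refine ⟨fun m => ⟨m, stalkLin_id x m⟩, fun m => ?_⟩
    rw [show stalkLin (H3Lef.toBot tr 0) x m = m from stalkLin_id x m]
    refine ⟨fun h => ⟨0, h.trans (smul_zero t).symm⟩, ?_⟩
    rintro ⟨m', rfl⟩
    obtain ⟨m'', rfl⟩ := hs 0 m'
    rw [← map_smul]
    exact (hk 0 _).2 ⟨m'', congrArg (fun c : X.presheaf.stalk x => c • m'') (pow_one t).symm⟩
  | n + 1 => by
    obtain ⟨hsur, hker⟩ := StalkCond.toBot hs hk n
    have he : ∀ m, stalkLin (H3Lef.toBot tr (n + 1)) x m = stalkLin (H3Lef.toBot tr n) x (stalkLin (tr n) x m) :=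
      fun m => stalkLin_comp (tr n) (H3Lef.toBot tr n) x m
    refine ⟨fun z => ?_, fun m => ?_⟩
    · obtain ⟨y, rfl⟩ := hsur z
      obtain ⟨m, rfl⟩ := hs n y
      exact ⟨m, he m⟩
    · rw [he, hker]
      constructor
      · rintro ⟨y, hy⟩
        obtain ⟨b, rfl⟩ := hs n y
        have h0 : stalkLin (tr n) x (m - t • b) = 0 := by rw [map_sub, map_smul, hy, sub_self]
        obtain ⟨c, hc⟩ := (hk n _).1 h0
        refine ⟨b + t ^ n • c, ?_⟩
        rw [smul_add, smul_smul, ← pow_succ', ← hc, add_sub_cancel]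
      · rintro ⟨m', rfl⟩
        exact ⟨stalkLin (tr n) x m', map_smul _ _ _⟩

theorem pair_zero (G : X.Modules) (x : X) (e : L.presheaf.stalk x) : pT G x 0 e = 0 :=
  congrFun (congrArg DFunLike.coe (map_zero (H16Derived.KFlat.Stalk.pairLin G L x))) e

theorem stalkLin_zero {A B : X.Modules} (x : X) (g : A.presheaf.stalk x) : stalkLin (0 : A ⟶ B) x g = 0 :=
  congr($((DerSch.stalkFunctor X x).map_zero _ _) g)

theorem stalkLin_mulSec_eq (G : X.Modules) (x : X) {t : X.presheaf.stalk x} {e : L.presheaf.stalk x}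
    (he : secAt s x = t • e) (g : G.presheaf.stalk x) : stalkLin (mulSec s G) x g = pT G x (t • g) e := by
  rw [stalkLin_mulSec, he, pair_smul_right]

theorem mulSec_natural {G G' : X.Modules} (φ : G ⟶ G') :
    mulSec s G ≫ (tw L).map φ = φ ≫ mulSec s G' := by
  refine H23KS.hom_ext_stalkLin fun x g => ?_
  rw [stalkLin_comp, stalkLin_comp, stalkLin_mulSec, stalkLin_mulSec, stalkLin_tw]

theorem additive_tw (hL : PicF.IsInvertible L) : (tw L).Additive := by
  obtain ⟨c⟩ := H25AbCube.isInverseOf_dual hL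
  haveI : (tw L).IsEquivalence := H17.FLI.DivExt.isEquivalence_flip (H11Ample.tensorCommIso _ _ ≪≫ c)
  exact Functor.additive_of_preserves_binary_products _

variable {Q : ℕ → X.Modules} (tr : ∀ n, Q (n + 1) ⟶ Q n)

theorem kernel_mulSec (h : ∀ x : X, StalkCond s tr x) (n : ℕ) :
    kernel.ι (tr n) ≫ mulSec s (Q (n + 1)) = 0 := by
  refine H23KS.hom_ext_stalkLin fun x g => ?_
  obtain ⟨t, e, he, hst, hs, hk, ha⟩ := h x
  have hg : stalkLin (tr n) x (stalkLin (kernel.ι (tr n)) x g) = 0 := by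
    rw [← stalkLin_comp, kernel.condition, stalkLin_zero]
  rw [stalkLin_comp, stalkLin_mulSec_eq s _ x hst, (ha n _).2 ((hk n _).1 hg), pair_zero, stalkLin_zero]

theorem σ_stalk {n : ℕ} {σ : Q n ⟶ (tw L).obj (Q (n + 1))} (hσ : tr n ≫ σ = mulSec s (Q (n + 1))) (x : X)
    {t : X.presheaf.stalk x} {e : L.presheaf.stalk x} (he : secAt s x = t • e)
    (m : (Q (n + 1)).presheaf.stalk x) :
    stalkLin σ x (stalkLin (tr n) x m) = pT (Q (n + 1)) x (t • m) e := by
  rw [← stalkLin_comp, hσ, stalkLin_mulSec_eq s _ x he]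

theorem mulSec_toBot (h : ∀ x : X, StalkCond s tr x) (n : ℕ) :
    mulSec s (Q (n + 1)) ≫ (tw L).map (toBot tr (n + 1)) = 0 := by
  refine H23KS.hom_ext_stalkLin fun x g => ?_
  obtain ⟨t, e, he, hst, hs, hk, ha⟩ := h x
  rw [stalkLin_comp, stalkLin_mulSec_eq s _ x hst, stalkLin_tw, ((StalkCond.toBot hs hk (n + 1)).2 _).2 ⟨g, rfl⟩,
    pair_zero, stalkLin_zero]

theorem mono_σ (h : ∀ x : X, StalkCond s tr x) {n : ℕ} {σ : Q n ⟶ (tw L).obj (Q (n + 1))}
    (hσ : tr n ≫ σ = mulSec s (Q (n + 1))) : Mono σ := by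
  refine H29Omega.mono_of_injective_stalkLin _ fun x => (injective_iff_map_eq_zero _).2 fun q hq => ?_
  obtain ⟨t, e, he, hst, hs, hk, ha⟩ := h x
  obtain ⟨m, rfl⟩ := hs n q
  rw [σ_stalk s tr hσ x hst m] at hq
  exact (hk n m).2 ((ha n m).1 ((bijective_pair (Q (n + 1)) x he).1 (hq.trans (pair_zero (Q (n + 1)) x e).symm)))

theorem epi_tw_toBot (h : ∀ x : X, StalkCond s tr x) (n : ℕ) : Epi ((tw L).map (toBot tr (n + 1))) := by
  refine H29Omega.epi_of_surjective_stalkLin _ fun x z => ?_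
  obtain ⟨t, e, he, hst, hs, hk, ha⟩ := h x
  obtain ⟨z₀, hz₀⟩ := (bijective_pair (Q 0) x he).2 z
  obtain ⟨m, hm⟩ := (StalkCond.toBot hs hk (n + 1)).1 z₀
  refine ⟨pT (Q (n + 1)) x m e, (stalkLin_tw (toBot tr (n + 1)) x m e).trans ?_⟩
  rw [hm]
  exact hz₀

theorem exact_of_stalks' {A B C : X.Modules} (f : A ⟶ B) (g : B ⟶ C) (w : f ≫ g = 0)
    (h : ∀ (x : X) (b : B.presheaf.stalk x), stalkLin g x b = 0 → ∃ a, stalkLin f x a = b) :
    (ShortComplex.mk f g w).Exact :=
  H29Omega.exact_of_stalks _ h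

theorem exact_σ (h : ∀ x : X, StalkCond s tr x) {n : ℕ} {σ : Q n ⟶ (tw L).obj (Q (n + 1))}
    (hσ : tr n ≫ σ = mulSec s (Q (n + 1))) (w : σ ≫ (tw L).map (toBot tr (n + 1)) = 0) :
    (ShortComplex.mk σ ((tw L).map (toBot tr (n + 1))) w).Exact := by
  refine exact_of_stalks' σ ((tw L).map (toBot tr (n + 1))) w fun x z hz => ?_
  obtain ⟨t, e, he, hst, hs, hk, ha⟩ := h x
  obtain ⟨m, hm⟩ := (bijective_pair (Q (n + 1)) x he).2 z
  have h1 : pT (Q 0) x (stalkLin (toBot tr (n + 1)) x m) e = 0 :=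
    (stalkLin_tw (toBot tr (n + 1)) x m e).symm.trans ((congrArg (stalkLin ((tw L).map (toBot tr (n + 1))) x) hm).trans hz)
  have h0 : stalkLin (toBot tr (n + 1)) x m = 0 :=
    (bijective_pair (Q 0) x he).1 (h1.trans (pair_zero (Q 0) x e).symm)
  obtain ⟨m', hm'⟩ := ((StalkCond.toBot hs hk (n + 1)).2 m).1 h0
  refine ⟨stalkLin (tr n) x m', (σ_stalk s tr hσ x hst m').trans ?_⟩
  rw [← hm']
  exact hm

theorem epi_of_stalkCond (h : ∀ x : X, StalkCond s tr x) (n : ℕ) : Epi (tr n) :=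
  H29Omega.epi_of_surjective_stalkLin _ fun x => by
    obtain ⟨t, e, -, -, hs, -⟩ := h x
    exact hs n

/-- A tower from stalkwise conditions. -/
theorem exists_tower (hL : PicF.IsInvertible L) (h : ∀ x : X, StalkCond s tr x) :
    ∃ 𝕋 : Tower (tw L), ∃ _ : 𝕋.Q = Q, HEq 𝕋.tr tr := by
  haveI := additive_tw hL
  haveI := epi_of_stalkCond s tr h
  obtain ⟨σ, hσ⟩ : ∃ σ : ∀ n, Q n ⟶ (tw L).obj (Q (n + 1)), ∀ n, tr n ≫ σ n = mulSec s (Q (n + 1)) :=
    ⟨fun n => Abelian.epiDesc (tr n) _ (kernel_mulSec s tr h n), fun n => Abelian.comp_epiDesc _ _ _⟩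
  have comm : ∀ n, σ (n + 1) ≫ (tw L).map (tr (n + 1)) = tr n ≫ σ n := fun n => by
    rw [← cancel_epi (tr (n + 1)), ← Category.assoc, hσ, mulSec_natural, hσ n]
  have zero : ∀ n, σ n ≫ (tw L).map (toBot tr (n + 1)) = 0 := fun n => by
    rw [← cancel_epi (tr n), comp_zero, ← Category.assoc, hσ, mulSec_toBot s tr h n]
  refine ⟨⟨Q, tr, σ, toBot tr, rfl, fun n => rfl, comm, zero, fun n => ?_,
    epi_of_stalkCond s tr h⟩, rfl, HEq.rfl⟩
  haveI := mono_σ s tr h (hσ n)
  haveI := epi_tw_toBot s tr h n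
  exact { exact := exact_σ s tr h (hσ n) (zero n) }

end Groth.Agent.H3Lef
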