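import Groth.Agent.H3Lef.LevBase
import Groth.Agent.H24Depth2.Main
import Groth.Agent.H16Derived.GTheory.Closed
import Groth.Agent.S2307

/-!
# Morphisms from a completion given by compatible maps to the levels
-/

set_option autoImplicit false
set_option linter.style.haveILetI false
set_option linter.unusedSectionVars false
set_option backward.isDefEq.respectTransparency false

universe u

open CategoryTheory CategoryTheory.Limits AlgebraicGeometry Opposite TopologicalSpace

attribute [local instance 10000] Groth.Agent.H10Coh.hasSheafifyAb Groth.Agent.H10Coh.hasWeakSheafifyAb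
  Groth.Agent.H10Coh.hasExtAb Groth.Agent.H10Coh.enoughInjAb

namespace Groth.Agent.H3Lef

variable {X : Scheme.{u}} [IsLocallyNoetherian X] (J : X.IdealSheafData)

/-- The transition isomorphisms of completions. -/
noncomputable abbrev cT (n : ℕ) :=
  Scheme.Modules.pullbackComp ((FSch.completionAlong X J).ι n) (FSch.completionToX X J (n + 1)) ≪≫
    Scheme.Modules.pullbackCongr (FSch.completionToX_comm X J n)

theorem levTr_eq (𝔐 : FSch.ModSys (FSch.completionAlong X J)) (n : ℕ) :
    H24FMod.stepMap (FSch.completionToX X J) (FSch.completionToX_comm X J) 𝔐 n = levTr J 𝔐 n := rfl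

variable (𝔐 : FSch.ModSys (FSch.completionAlong X J)) {N : X.Modules} (φ : ∀ n, N ⟶ lev J 𝔐 n)

/-- Compatible maps to the levels give a morphism of systems. -/
theorem exists_hom_of_family' {𝔛 : FSch.Sys.{u}} (c : ∀ n, 𝔛.X n ⟶ X) (hc : ∀ n, 𝔛.ι n ≫ c (n + 1) = c n)
    [∀ n, IsClosedImmersion (c n)]
    (T : ∀ n, Scheme.Modules.pullback (c (n + 1)) ⋙ Scheme.Modules.pullback (𝔛.ι n) ≅ Scheme.Modules.pullback (c n))
    (hT : ∀ n, T n = Scheme.Modules.pullbackComp (𝔛.ι n) (c (n + 1)) ≪≫ Scheme.Modules.pullbackCongr (hc n))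
    (𝔐 : FSch.ModSys 𝔛) {N : X.Modules} (φ : ∀ n, N ⟶ (Scheme.Modules.pushforward (c n)).obj (𝔐.F n))
    (hφ : ∀ n, φ (n + 1) ≫ H24FMod.stepMap c hc 𝔐 n = φ n) :
    ∃ Φ : H24FMod.pbSys c T N ⟶ 𝔐, ∀ n, (Scheme.Modules.pullbackPushforwardAdjunction (c n)).unit.app N ≫
      (Scheme.Modules.pushforward (c n)).map (Φ.app n) = φ n := by
  let ψ : ∀ n, (H24FMod.pbSys c T N).F n ⟶ 𝔐.F n := fun n =>
    ((Scheme.Modules.pullbackPushforwardAdjunction (c n)).homEquiv N (𝔐.F n)).symm (φ n)
  have hψ : ∀ n, (Scheme.Modules.pullbackPushforwardAdjunction (c n)).unit.app N ≫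
      (Scheme.Modules.pushforward (c n)).map (ψ n) = φ n := fun n =>
    ((Scheme.Modules.pullbackPushforwardAdjunction (c n)).homEquiv_unit _ _ _).symm.trans
      (Equiv.apply_symm_apply _ _)
  have hcomm : ∀ n, (H24FMod.pbSys c T N).toPush n ≫
      (Scheme.Modules.pushforward (𝔛.ι n)).map (ψ n) = ψ (n + 1) ≫ 𝔐.toPush n := fun n => by
    refine (H24FMod.step_natural c hc ψ n).1 ?_
    haveI := H16Derived.GTheory.epi_unit (c (n + 1)) N
    refine (cancel_epi ((Scheme.Modules.pullbackPushforwardAdjunction (c (n + 1))).unit.app N)).1 ?_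
    refine (Category.assoc _ _ _).symm.trans ((congrArg (· ≫ (Scheme.Modules.pushforward (c n)).map (ψ n))
      (H24FMod.lvUnit_step c hc T hT N n)).trans ((hψ n).trans ((hφ n).symm.trans ?_)))
    exact (congrArg (· ≫ H24FMod.stepMap c hc 𝔐 n) (hψ (n + 1)).symm).trans (Category.assoc _ _ _)
  refine ⟨⟨ψ, fun n => ?_⟩, hψ⟩
  refine ((Scheme.Modules.pullbackPushforwardAdjunction (𝔛.ι n)).homEquiv _ _).injective ?_
  rw [Adjunction.homEquiv_naturality_left, Adjunction.homEquiv_naturality_right]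
  exact (hcomm n).symm

omit [IsLocallyNoetherian X] in
theorem exists_hom_transport {𝔛 : FSch.Sys.{u}} {F : ∀ n, (𝔛.X n).Modules}
    {e e' : ∀ n, (Scheme.Modules.pullback (𝔛.ι n)).obj (F (n + 1)) ≅ F n}
    (h : (FSch.ModSys.mk F e : FSch.ModSys 𝔛) = FSch.ModSys.mk F e') {𝔑 : FSch.ModSys 𝔛}
    (Φ : (FSch.ModSys.mk F e : FSch.ModSys 𝔛) ⟶ 𝔑) :
    ∃ g : (FSch.ModSys.mk F e' : FSch.ModSys 𝔛) ⟶ 𝔑, ∀ n, g.app n = Φ.app n := by
  injection h with _ h2
  cases h2
  exact ⟨Φ, fun _ => rfl⟩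

/-- Compatible maps to the levels give a morphism from the completion. -/
theorem exists_hom_of_family (hφ : ∀ n, φ (n + 1) ≫ levTr J 𝔐 n = φ n) :
    ∃ Φ : FSch.completionMod J N ⟶ 𝔐, ∀ n,
      (Scheme.Modules.pullbackPushforwardAdjunction (FSch.completionToX X J n)).unit.app N ≫
        (Scheme.Modules.pushforward (FSch.completionToX X J n)).map (Φ.app n) = φ n := by
  haveI : ∀ n, IsClosedImmersion (FSch.completionToX X J n) := H24FMod.isClosedImmersion_completionToX (𝓘 := J)
  obtain ⟨Φ, hΦ⟩ := exists_hom_of_family' (FSch.completionToX X J) (FSch.completionToX_comm X J) (cT J)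
    (fun _ => rfl) 𝔐 φ hφ
  obtain ⟨g, hg⟩ := exists_hom_transport (H24Depth2.completionMod_eq J N).symm Φ
  exact ⟨g, fun n => by rw [hg]; exact hΦ n⟩

omit [IsLocallyNoetherian X] in
theorem counit_of_unit {C D : Type*} [Category C] [Category D] {F : C ⥤ D} {G : D ⥤ C} (adj : F ⊣ G) {A : C}
    {B : D} (ψ : F.obj A ⟶ B) (φ : A ⟶ G.obj B) (h : adj.unit.app A ≫ G.map ψ = φ) :
    F.map φ ≫ adj.counit.app B = ψ := by
  subst h
  simp

/-- If the map to the bottom level is an epimorphism, all levels of the morphism are. -/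
theorem epi_app_of_zero (h𝔐 : LefX.LevelwiseFinLocFree 𝔐) (hN : Coh.IsCoh N) (Φ : FSch.completionMod J N ⟶ 𝔐)
    (hΦ : ∀ n, (Scheme.Modules.pullbackPushforwardAdjunction (FSch.completionToX X J n)).unit.app N ≫
        (Scheme.Modules.pushforward (FSch.completionToX X J n)).map (Φ.app n) = φ n) [Epi (φ 0)] :
    ∀ n, Epi (Φ.app n) := by
  let c := FSch.completionToX X J
  haveI : ∀ n, IsClosedImmersion (c n) := H24FMod.isClosedImmersion_completionToX (𝓘 := J)
  haveI : ∀ n, IsLocallyNoetherian ((FSch.completionAlong X J).X n) := fun n =>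
    LocallyOfFiniteType.isLocallyNoetherian (c n)
  intro n
  induction n with
  | zero =>
    let adj := Scheme.Modules.pullbackPushforwardAdjunction (c 0)
    have h : (Scheme.Modules.pullback (c 0)).map (φ 0) ≫ adj.counit.app (𝔐.F 0) = Φ.app 0 :=
      counit_of_unit adj (Φ.app 0) (φ 0) (hΦ 0)
    haveI : IsIso (adj.counit.app (𝔐.F 0)) := H24Hilb.Closed.isIso_counit_of_isClosedImmersion (c 0) _
    haveI : Epi ((Scheme.Modules.pullback (c 0)).map (φ 0)) := by
      haveI := adj.isLeftAdjoint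
      infer_instance
    rw [← h]
    infer_instance
  | succ n ih =>
    let ι := (FSch.completionAlong X J).ι n
    haveI : IsClosedImmersion ι := ((H24FSch.isFormal_completionAlong X J) n).1
    haveI : Surjective ι := ⟨((H24FSch.isFormal_completionAlong X J) n).2⟩
    have h1 : Coh.IsCoh (𝔐.F (n + 1)) := H16Derived.KFlat.Stalk.isCoh_of_isFinLocFree (h𝔐 (n + 1))
    have h2 : Coh.IsCoh ((FSch.completionMod J N).F (n + 1)) := H17.ConsProp.isCoh_pullback _ hN
    haveI := h1.1
    haveI := h2.1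
    refine (S2307.result ι _ _ h1.2 (Φ.app (n + 1))).2 ?_
    haveI := ih
    have h3 : Epi ((Scheme.Modules.pullback ι).map (Φ.app (n + 1)) ≫ (𝔐.e n).hom) := by
      rw [Φ.comm n]
      infer_instance
    have h4 : (Scheme.Modules.pullback ι).map (Φ.app (n + 1)) =
        ((Scheme.Modules.pullback ι).map (Φ.app (n + 1)) ≫ (𝔐.e n).hom) ≫ (𝔐.e n).inv := by simp
    rw [h4]
    infer_instance

end Groth.Agent.H3Lef
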