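import Groth.Agent.H3Lef.LocalEq
import Groth.Prelude.Def_LefX
import Groth.Agent.H8Props.FinLocFree.Global

/-!
# The tower of a system of locally free modules on the completion along an invertible ideal
-/

set_option autoImplicit false
set_option linter.style.haveILetI false
set_option backward.isDefEq.respectTransparency false

universe u

open CategoryTheory CategoryTheory.Limits AlgebraicGeometry Opposite TopologicalSpace TensorProduct
open Groth.Agent.H06Mod (stalkLin stalkLin_germ pullStalk pullStalkLin pullStalkLin_tmul)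
open Groth.Agent.H16Derived.ProjFormula (pushStalk pushStalk_germ pushStalk_bijective pushStalk_smul)

namespace Groth.Agent.H3Lef

section Algebra

variable {R S S' : Type u} [CommRing R] [CommRing S] [CommRing S'] [Algebra S' S]
variable {M : Type u} [AddCommGroup M] [Module S' M] [Module.Free S' M]

theorem tmul_eq_zero_iff (m : M) :
    (1 : S) ⊗ₜ[S'] m = 0 ↔
      ∀ i, algebraMap S' S ((Module.Free.chooseBasis S' M).repr m i) = 0 := by
  let b := Module.Free.chooseBasis S' M
  refine ⟨fun h i => ?_, fun h => (b.baseChange S).repr.injective (Finsupp.ext fun i => ?_)⟩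
  · have h1 := b.baseChange_repr_tmul S (1 : S) m i
    rw [h, map_zero, Finsupp.zero_apply, Algebra.smul_def, mul_one] at h1
    exact h1.symm
  · rw [b.baseChange_repr_tmul S, map_zero, Finsupp.zero_apply, Algebra.smul_def, mul_one]
    exact h i

/-- Divisibility by an element of `R` is coordinatewise. -/
theorem eq_smul_iff (φ : R →+* S') (hφ : Function.Surjective φ) (u : R) (m : M) :
    (∃ m' : M, m = φ u • m') ↔
      ∀ i, ∀ a, φ a = (Module.Free.chooseBasis S' M).repr m i → ∃ b, φ a = φ (u * b) := by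
  classical
  let b := Module.Free.chooseBasis S' M
  constructor
  · rintro ⟨m', rfl⟩ i a ha
    obtain ⟨c, hc⟩ := hφ (b.repr m' i)
    refine ⟨c, ?_⟩
    rw [ha, map_mul, hc, map_smul, Finsupp.smul_apply, smul_eq_mul]
  · intro h
    choose a ha using fun i => hφ (b.repr m i)
    choose c hc using fun i => h i (a i) (ha i)
    refine ⟨b.repr.symm (Finsupp.onFinset (b.repr m).support
      (fun i => if b.repr m i = 0 then 0 else φ (c i)) fun i hi => Finsupp.mem_support_iff.2 fun h0 => hi (if_pos h0)),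
      b.repr.injective (Finsupp.ext fun i => ?_)⟩
    rw [map_smul, LinearEquiv.apply_symm_apply, Finsupp.smul_apply, Finsupp.onFinset_apply, smul_eq_mul]
    split_ifs with h0
    · rw [h0, mul_zero]
    · rw [← map_mul, ← hc i, ha i]

/-- Multiples of `t ^ n` in a free module over `R ⧸ (t ^ (n + 1))`. -/
theorem step_algebra (φ : R →+* S') (hφ : Function.Surjective φ) (t : R) (hreg : ∀ c, t * c = 0 → c = 0) (n : ℕ)
    (h' : ∀ a, φ a = 0 ↔ ∃ b, a = t ^ (n + 1 + 1) * b)
    (h : ∀ a, algebraMap S' S (φ a) = 0 ↔ ∃ b, a = t ^ (n + 1) * b) (m : M) :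
    ((1 : S) ⊗ₜ[S'] m = 0 ↔ ∃ m' : M, m = φ (t ^ (n + 1)) • m') ∧
      (φ t • m = 0 ↔ ∃ m' : M, m = φ (t ^ (n + 1)) • m') := by
  let b := Module.Free.chooseBasis S' M
  have hpow : ∀ (k : ℕ) c, t ^ k * c = 0 → c = 0 := by
    intro k
    induction k with
    | zero => simp
    | succ k ih => exact fun c hc => ih c (hreg _ (by rw [← mul_assoc, ← pow_succ']; exact hc))
  constructor
  · rw [tmul_eq_zero_iff, eq_smul_iff φ hφ]
    refine forall_congr' fun i => ⟨fun h0 a ha => ?_, fun h0 => ?_⟩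
    · rw [← ha] at h0
      obtain ⟨c, rfl⟩ := (h a).1 h0
      exact ⟨c, rfl⟩
    · obtain ⟨a, ha⟩ := hφ (b.repr m i)
      obtain ⟨c, hc⟩ := h0 a ha
      rw [← ha, hc]
      exact (h _).2 ⟨c, rfl⟩
  · rw [eq_smul_iff φ hφ]
    constructor
    · intro h0 i a ha
      have h1 : φ (t * a) = 0 := by
        rw [map_mul, ha]
        have := congrArg (fun z => b.repr z i) h0
        simpa using this
      obtain ⟨c, hc⟩ := (h' _).1 h1
      refine ⟨c, congrArg φ ?_⟩
      refine sub_eq_zero.1 (hreg _ ?_)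
      rw [mul_sub, hc, pow_succ' t (n + 1)]
      ring
    · intro h0
      refine b.repr.injective (Finsupp.ext fun i => ?_)
      obtain ⟨a, ha⟩ := hφ (b.repr m i)
      obtain ⟨c, hc⟩ := h0 i a ha
      rw [map_smul, map_zero, Finsupp.smul_apply, Finsupp.zero_apply, smul_eq_mul, ← ha, hc, ← map_mul]
      exact (h' _).2 ⟨c, by rw [← mul_assoc, ← pow_succ']⟩

end Algebra

section Step

variable {X Z Z' : Scheme.{u}} (j : Z ⟶ Z') (ι' : Z' ⟶ X) (ι : Z ⟶ X) (hc : j ≫ ι' = ι)
variable {M' : Z'.Modules} {M : Z.Modules} (e : (Scheme.Modules.pullback j).obj M' ≅ M)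

/-- The truncation on `X`. -/
noncomputable def trunc : (Scheme.Modules.pushforward ι').obj M' ⟶ (Scheme.Modules.pushforward ι).obj M :=
  (Scheme.Modules.pushforward ι').map (((Scheme.Modules.pullbackPushforwardAdjunction j).homEquiv _ _) e.hom) ≫
    (Scheme.Modules.pushforwardComp j ι').hom.app M ≫ (Scheme.Modules.pushforwardCongr hc).hom.app M

/-- The kernel of the stalk map of `ι` at `x` consists of the multiples of `t ^ k`. -/
def KerPow {Y : Scheme.{u}} (ι : Y ⟶ X) {x : X} (t : X.presheaf.stalk x) (k : ℕ) : Prop :=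
  ∀ (d : Y) (hd : ι d = x) (a : X.presheaf.stalk x),
    ((ι.stalkMap d).hom ((X.presheaf.stalkCongr (.of_eq hd)).inv a) = 0) ↔ ∃ b, a = t ^ k * b

theorem pushStalk_trunc (z : Z) (m : ((Scheme.Modules.pushforward ι').obj M').presheaf.stalk (ι' (j z))) :
    pushStalk (j ≫ ι') M z (stalkLin (trunc j ι' (j ≫ ι') rfl e) (ι' (j z)) m) =
      stalkLin e.hom z (pullStalk j M' z (pushStalk ι' M' (j z) m)) := by
  obtain ⟨W, hW, σ, rfl⟩ := ((Scheme.Modules.pushforward ι').obj M').presheaf.exists_germ_eq m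
  rw [stalkLin_germ]
  erw [pushStalk_germ, pushStalk_germ, H06Mod.pullStalk_germ, stalkLin_germ]
  refine congrArg _ ?_
  show ((Scheme.Modules.pushforwardCongr (rfl : j ≫ ι' = j ≫ ι')).hom.app M).app W
    (((Scheme.Modules.pullbackPushforwardAdjunction j).homEquiv _ _ e.hom).app (ι' ⁻¹ᵁ W) σ) = _
  rw [H06Mod.homEquiv_app]
  exact ConcreteCategory.congr_hom (M.presheaf.map_id (op ((j ≫ ι') ⁻¹ᵁ W))) _

theorem pushStalk_eq_zero {Y : Scheme.{u}} (g : Y ⟶ X) [IsClosedImmersion g] (G : Y.Modules) (z : Y)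
    (m : ((Scheme.Modules.pushforward g).obj G).presheaf.stalk (g z)) :
    pushStalk g G z m = 0 ↔ m = 0 :=
  map_eq_zero_iff (pushStalk g G z) (pushStalk_bijective g G z).1

theorem pushStalk_eq_smul {Y : Scheme.{u}} (g : Y ⟶ X) [IsClosedImmersion g] (G : Y.Modules) (z : Y)
    (a : X.presheaf.stalk (g z)) (m : ((Scheme.Modules.pushforward g).obj G).presheaf.stalk (g z)) :
    (∃ m', pushStalk g G z m = (g.stalkMap z).hom a • m') ↔ ∃ m', m = a • m' := by
  constructor
  · rintro ⟨m', h⟩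
    obtain ⟨m'', rfl⟩ := (pushStalk_bijective g G z).2 m'
    exact ⟨m'', (pushStalk_bijective g G z).1 (h.trans (pushStalk_smul g G z a m'').symm)⟩
  · rintro ⟨m', rfl⟩
    exact ⟨pushStalk g G z m', pushStalk_smul g G z a m'⟩

theorem stalkLin_iso_eq_zero {Y : Scheme.{u}} {A B : Y.Modules} (f : A ≅ B) (y : Y) (a : A.presheaf.stalk y) :
    stalkLin f.hom y a = 0 ↔ a = 0 :=
  map_eq_zero_iff (stalkLin f.hom y) (H17.InvertibleTensor.bijective_stalkLin f y).1

variable [IsClosedImmersion j] [IsClosedImmersion ι'] (hfree : FlatMod.IsFinLocFree M')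

include hfree in
theorem step_at (z : Z) (t : X.presheaf.stalk (ι' (j z))) (hreg : ∀ c, t * c = 0 → c = 0) (n : ℕ)
    (h' : KerPow ι' t (n + 1 + 1)) (h : KerPow (j ≫ ι') (x := ι' (j z)) t (n + 1)) :
    Function.Surjective (stalkLin (trunc j ι' (j ≫ ι') rfl e) (ι' (j z))) ∧
    (∀ m, stalkLin (trunc j ι' (j ≫ ι') rfl e) (ι' (j z)) m = 0 ↔ ∃ m', m = t ^ (n + 1) • m') ∧
    (∀ m : ((Scheme.Modules.pushforward ι').obj M').presheaf.stalk (ι' (j z)),
      t • m = 0 ↔ ∃ m', m = t ^ (n + 1) • m') := by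
  haveI := H8Props.FinLocFree.free_stalk M' hfree (j z)
  letI : Algebra (Z'.presheaf.stalk (j z)) (Z.presheaf.stalk z) := (j.stalkMap z).hom.toAlgebra
  let φ := (ι'.stalkMap (j z)).hom
  have hφ : Function.Surjective φ := ι'.stalkMap_surjective (j z)
  have hrefl : ∀ (y : X) (a : X.presheaf.stalk y), (X.presheaf.stalkCongr (.of_eq (rfl : y = y))).inv a = a := by
    intro y a
    show X.presheaf.stalkSpecializes (specializes_refl y) a = a
    rw [TopCat.Presheaf.stalkSpecializes_refl]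
    rfl
  have k' : ∀ a, φ a = 0 ↔ ∃ b, a = t ^ (n + 1 + 1) * b := fun a => by
    have := h' (j z) rfl a
    erw [hrefl] at this
    exact this
  have k : ∀ a, algebraMap (Z'.presheaf.stalk (j z)) (Z.presheaf.stalk z) (φ a) = 0 ↔ ∃ b, a = t ^ (n + 1) * b :=
    fun a => by
      have := h z rfl a
      erw [hrefl] at this
      rw [Scheme.Hom.stalkMap_comp] at this
      exact this
  have hbij := H06Mod.pullStalkLin_bijective j M' z
  have hval : ∀ m, pushStalk (j ≫ ι') M z (stalkLin (trunc j ι' (j ≫ ι') rfl e) (ι' (j z)) m) =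
      stalkLin e.hom z (pullStalkLin j M' z ((1 : Z.presheaf.stalk z) ⊗ₜ pushStalk ι' M' (j z) m)) := fun m => by
    rw [pullStalkLin_tmul, one_smul, pushStalk_trunc]
  refine ⟨fun q => ?_, fun m => ?_, fun m => ?_⟩
  · obtain ⟨p, hp⟩ := (H17.InvertibleTensor.bijective_stalkLin e z).2 (pushStalk (j ≫ ι') M z q)
    obtain ⟨T, rfl⟩ := hbij.2 p
    obtain ⟨μ, hμ⟩ : ∃ μ, (1 : Z.presheaf.stalk z) ⊗ₜ[Z'.presheaf.stalk (j z)] μ = T := by
      clear hp
      induction T using TensorProduct.induction_on with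
      | zero => exact ⟨0, tmul_zero _ _⟩
      | add a b ha hb =>
        obtain ⟨x, hx⟩ := ha
        obtain ⟨y, hy⟩ := hb
        exact ⟨x + y, by rw [tmul_add, hx, hy]⟩
      | tmul c y =>
        obtain ⟨d, hd⟩ := j.stalkMap_surjective z c
        refine ⟨d • y, ?_⟩
        rw [← TensorProduct.smul_tmul, Algebra.smul_def, mul_one]
        exact congrArg (· ⊗ₜ y) hd
    obtain ⟨m, rfl⟩ := (pushStalk_bijective ι' M' (j z)).2 μ
    exact ⟨m, (pushStalk_bijective (j ≫ ι') M z).1 ((hval m).trans (hμ ▸ hp))⟩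
  · have h1 := pushStalk_eq_zero (j ≫ ι') M z (stalkLin (trunc j ι' (j ≫ ι') rfl e) (ι' (j z)) m)
    rw [← h1, hval, stalkLin_iso_eq_zero, map_eq_zero_iff _ hbij.1, (step_algebra φ hφ t hreg n k' k _).1,
      pushStalk_eq_smul]
  · rw [← pushStalk_eq_zero ι' M' (j z) (t • m), pushStalk_smul, (step_algebra φ hφ t hreg n k' k _).2,
      pushStalk_eq_smul]

include hfree hc in
/-- The stalk conditions of a truncation. -/
theorem step_at' (z : Z) {x : X} (hz : ι z = x) (t : X.presheaf.stalk x) (hreg : ∀ c, t * c = 0 → c = 0) (n : ℕ)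
    (h' : KerPow ι' t (n + 1 + 1)) (h : KerPow ι t (n + 1)) :
    Function.Surjective (stalkLin (trunc j ι' ι hc e) x) ∧
    (∀ m, stalkLin (trunc j ι' ι hc e) x m = 0 ↔ ∃ m', m = t ^ (n + 1) • m') ∧
    (∀ m : ((Scheme.Modules.pushforward ι').obj M').presheaf.stalk x,
      t • m = 0 ↔ ∃ m', m = t ^ (n + 1) • m') := by
  subst hc
  subst hz
  exact step_at j ι' e hfree z t hreg n h' h

end Step

section Sys

variable {X : Scheme.{u}} (J : X.IdealSheafData) (𝔐 : FSch.ModSys (FSch.completionAlong X J))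

/-- The level on `X`. -/
noncomputable abbrev lev (n : ℕ) : X.Modules :=
  (Scheme.Modules.pushforward (FSch.completionToX X J n)).obj (𝔐.F n)

theorem trans_comp (n : ℕ) :
    (FSch.completionAlong X J).ι n ≫ FSch.completionToX X J (n + 1) = FSch.completionToX X J n :=
  Scheme.IdealSheafData.inclusion_subschemeι _

/-- The transition on `X`. -/
noncomputable abbrev levTr (n : ℕ) : lev J 𝔐 (n + 1) ⟶ lev J 𝔐 n :=
  trunc ((FSch.completionAlong X J).ι n) (FSch.completionToX X J (n + 1)) (FSch.completionToX X J n)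
    (trans_comp J n) (𝔐.e n)

variable {L : X.Modules}

theorem step_cond (h𝔐 : LefX.LevelwiseFinLocFree 𝔐) {x : X} (t : X.presheaf.stalk x)
    (hreg : ∀ c, t * c = 0 → c = 0)
    (ht : ∀ a : X.presheaf.stalk x, (∃ b, a = t * b) ↔ stalkLin (ClSub.toSubscheme J) x (a • oneAt x) = 0)
    (hx : x ∈ (J.support : Set X)) (n : ℕ) :
    Function.Surjective (stalkLin (levTr J 𝔐 n) x) ∧
    (∀ m, stalkLin (levTr J 𝔐 n) x m = 0 ↔ ∃ m', m = t ^ (n + 1) • m') ∧
    (∀ m : (lev J 𝔐 (n + 1)).presheaf.stalk x, t • m = 0 ↔ ∃ m', m = t ^ (n + 1) • m') := by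
  have h : KerPow (FSch.completionToX X J n) t (n + 1) := fun d hd a => ker_stalkMap_pow J ht n d hd a
  have h' : KerPow (FSch.completionToX X J (n + 1)) t (n + 1 + 1) := fun d hd a =>
    ker_stalkMap_pow J ht (n + 1) d hd a
  obtain ⟨z, hz⟩ : x ∈ Set.range (FSch.completionToX X J n) := (H05EGA4.LefConn.range_pow J n).ge hx
  haveI : IsClosedImmersion ((FSch.completionAlong X J).ι n) :=
    inferInstanceAs (IsClosedImmersion (Scheme.IdealSheafData.inclusion _))
  haveI : IsClosedImmersion (FSch.completionToX X J (n + 1)) :=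
    inferInstanceAs (IsClosedImmersion (J ^ (n + 1 + 1)).subschemeι)
  exact step_at' _ (FSch.completionToX X J (n + 1)) (FSch.completionToX X J n) (trans_comp J n) (𝔐.e n)
    (h𝔐 (n + 1)) z hz t hreg n h' h

theorem subsingleton_lev (n : ℕ) {x : X} (hx : x ∉ (J.support : Set X)) :
    Subsingleton ((lev J 𝔐 n).presheaf.stalk x) := by
  haveI : IsClosedImmersion (FSch.completionToX X J n) :=
    inferInstanceAs (IsClosedImmersion (J ^ (n + 1)).subschemeι)
  exact H16Derived.ProjFormula.subsingleton_stalk_push _ _ x fun h => hx ((H05EGA4.LefConn.range_pow J n).le h)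

/-- The tower of a levelwise locally free system. -/
theorem exists_sysTower (h𝔐 : LefX.LevelwiseFinLocFree 𝔐) (hL : PicF.IsInvertible L)
    (hJ : PicF.IsInvertible (ClSub.idealMod J))
    (e : CohB1.tensorMod L (ClSub.idealMod J) ≅ Coh.structureModule X) :
    ∃ 𝕋 : Tower (tw L), ∃ _ : 𝕋.Q = lev J 𝔐, HEq 𝕋.tr (levTr J 𝔐) := by
  refine exists_tower (canSec J e) (levTr J 𝔐) hL fun x => ?_
  obtain ⟨t, l, hl, hs, hreg, ht⟩ := exists_equation J hL hJ e x
  by_cases hx : x ∈ (J.support : Set X)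
  · exact ⟨t, l, hl, hs, fun n => (step_cond J 𝔐 h𝔐 t hreg ht hx n).1,
      fun n => (step_cond J 𝔐 h𝔐 t hreg ht hx n).2.1, fun n => (step_cond J 𝔐 h𝔐 t hreg ht hx n).2.2⟩
  · haveI := fun n => subsingleton_lev J 𝔐 n hx
    exact ⟨t, l, hl, hs, fun n m => ⟨0, Subsingleton.elim _ _⟩,
      fun n m => iff_of_true (Subsingleton.elim _ _) ⟨0, Subsingleton.elim _ _⟩,
      fun n m => iff_of_true (Subsingleton.elim _ _) ⟨0, Subsingleton.elim _ _⟩⟩

end Sys

end Groth.Agent.H3Lef
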