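import Groth.Agent.LeadFF.Coh
import Groth.Agent.LeadFF.Geom
import Groth.Agent.H10Coh.Proper2
import Groth.Agent.H10Coh.Pn.Results
import Groth.Agent.H28NT.Connectedness

/-!
# Lifting sections of the first level along a tower of twisted thickenings

The twists of the first cohomology surject onto each other; Noetherianity of one of them makes the
connecting maps vanish from some twist on.
-/

set_option autoImplicit false
set_option linter.style.haveILetI false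
set_option linter.unusedSectionVars false

universe u

open CategoryTheory CategoryTheory.Limits AlgebraicGeometry Opposite TopologicalSpace Abelian

attribute [local instance 10000] Groth.Agent.H10Coh.hasSheafifyAb Groth.Agent.H10Coh.hasWeakSheafifyAb
  Groth.Agent.H10Coh.hasExtAb Groth.Agent.H10Coh.enoughInjAb

namespace Groth.Agent.H3Lef

section Abstract

variable {H : ℕ → ℕ → Type u} [∀ n d, AddCommGroup (H n d)]

/-- Killed by the `d`-fold composite of `σ`. -/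
def Killed (σ : ∀ n d, H n d →+ H (n + 1) (d + 1)) : ∀ (j n d : ℕ), H n d → Prop
  | 0, _, _, x => x = 0
  | j + 1, n, d, x => Killed σ j (n + 1) (d + 1) (σ n d x)

variable {σ : ∀ n d, H n d →+ H (n + 1) (d + 1)}

theorem killed_zero : ∀ (j n d : ℕ), Killed σ j n d 0
  | 0, _, _ => rfl
  | j + 1, n, d => show Killed σ j _ _ (σ n d 0) from (map_zero (σ n d)).symm ▸ killed_zero j _ _

theorem killed_succ : ∀ {j n d : ℕ} {x : H n d}, Killed σ j n d x → Killed σ (j + 1) n d x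
  | 0, n, d, x, h => show σ n d x = 0 from (show x = 0 from h).symm ▸ map_zero _
  | j + 1, n, d, x, h => killed_succ (j := j) h

theorem killed_mono {j j' : ℕ} (hj : j ≤ j') {n d : ℕ} {x : H n d} (h : Killed σ j n d x) :
    Killed σ j' n d x := by
  induction hj with
  | refl => exact h
  | step _ ih => exact killed_succ ih

variable {M : ℕ → Type u} (τ : ∀ n d, H (n + 1) d →+ H n d)
  (comm : ∀ n d (x : H (n + 1) d), σ n d (τ n d x) = τ (n + 1) (d + 1) (σ (n + 1) d x))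
  (δ : ∀ n d, M d → H n d) (ex : ∀ n d (x : H n d), σ n d x = 0 → ∃ h, δ n d h = x)
  (exδ : ∀ n d h, σ n d (δ n d h) = 0)
  (nat : ∀ n d h, τ n d (δ (n + 1) d h) = δ n d h) (surj : ∀ n d, Function.Surjective (σ n d))

include comm in
theorem killed_τ : ∀ {j n d : ℕ} {x : H (n + 1) d}, Killed σ j (n + 1) d x → Killed σ j n d (τ n d x)
  | 0, n, d, x, h => show τ n d x = 0 from (show x = 0 from h).symm ▸ map_zero _
  | j + 1, n, d, x, h => by
    show Killed σ j (n + 1) (d + 1) (σ n d (τ n d x))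
    rw [comm]
    exact killed_τ h

include comm ex exδ nat surj in
theorem exists_killed_lift : ∀ (j n d : ℕ) (x : H n d), Killed σ j n d x →
    ∃ y : H (n + 1) d, Killed σ j (n + 1) d y ∧ τ n d y = x
  | 0, n, d, x, h => ⟨0, killed_zero 0 _ _, (map_zero _).trans (show x = 0 from h).symm⟩
  | j + 1, n, d, x, h => by
    obtain ⟨y', hy', he⟩ := exists_killed_lift j (n + 1) (d + 1) (σ n d x) h
    obtain ⟨y₀, rfl⟩ := surj (n + 1) d y'
    obtain ⟨h', hh'⟩ := ex n d (τ n d y₀ - x) (by rw [map_sub, comm, he, sub_self])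
    refine ⟨y₀ - δ (n + 1) d h', ?_, ?_⟩
    · show Killed σ j (n + 1 + 1) (d + 1) (σ (n + 1) d (y₀ - δ (n + 1) d h'))
      rw [map_sub, exδ, sub_zero]
      exact hy'
    · rw [map_sub, nat, hh', sub_sub_cancel]

include surj in
theorem exists_preimage : ∀ (e m : ℕ) (z : H (m + e) e),
    ∃ x : H m 0, ∀ i, Killed σ (e + i) m 0 x ↔ Killed σ i (m + e) e z
  | 0, m, z => ⟨z, fun i => by rw [Nat.zero_add]; exact Iff.rfl⟩
  | e + 1, m, z => by
    obtain ⟨w, rfl⟩ := surj (m + e) e z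
    obtain ⟨x, hx⟩ := exists_preimage e m w
    refine ⟨x, fun i => ?_⟩
    rw [Nat.add_right_comm e 1 i]
    exact hx (i + 1)

include comm ex exδ nat surj in
/-- If the kernels of the composites at one level stabilise, the connecting maps vanish. -/
theorem exists_delta_vanish (N : ℕ) (inj : ∀ n, N ≤ n → Function.Injective (τ n 0))
    (D : ℕ) (stab : ∀ j x, Killed σ j N 0 x → Killed σ D N 0 x) :
    ∀ d, D ≤ d → ∀ n h, δ n d h = 0 := by
  have hst : ∀ n, N ≤ n → ∀ j x, Killed σ j n 0 x → Killed σ D n 0 x := by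
    intro n hn
    induction hn with
    | refl => exact stab
    | @step n hn ih =>
      intro j x hx
      obtain ⟨y, hy, he⟩ := exists_killed_lift τ comm δ ex exδ nat surj D n 0 _ (ih j _ (killed_τ τ comm hx))
      rwa [← inj n hn he]
  intro d hd
  have hbig : ∀ m, N ≤ m → ∀ h, δ (m + d) d h = 0 := by
    intro m hm h
    obtain ⟨x, hx⟩ := exists_preimage surj d m (δ (m + d) d h)
    have h1 : Killed σ (d + 1) m 0 x := (hx 1).2 (exδ (m + d) d h)
    exact (hx 0).1 (killed_mono hd (hst m hm _ x h1))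
  have down : ∀ k n, (∀ h, δ (n + k) d h = 0) → ∀ h, δ n d h = 0 := by
    intro k
    induction k with
    | zero => exact fun n hn => hn
    | succ k ih =>
      exact fun n hn => ih n fun h => (nat (n + k) d h).symm.trans ((congrArg (τ (n + k) d) (hn h)).trans (map_zero _))
  intro n h
  refine down (N + d) n (fun h => ?_) h
  rw [show n + (N + d) = n + N + d from (Nat.add_assoc _ _ _).symm]
  exact hbig (n + N) (Nat.le_add_left _ _) h

theorem exists_family_above : ∀ (N : ℕ) {G : ℕ → Type u} (r : ∀ n, G (n + 1) → G n),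
    (∀ n, N ≤ n → Function.Surjective (r n)) → ∀ gN : G N,
      ∃ f : ∀ n, G n, (∀ n, r n (f (n + 1)) = f n) ∧ f N = gN
  | 0, G, r, hs, gN =>
    let f : ∀ n, G n := fun n => Nat.rec gN (fun n fn => Function.surjInv (hs n (Nat.zero_le n)) fn) n
    ⟨f, fun n => Function.surjInv_eq (hs n (Nat.zero_le n)) (f n), rfl⟩
  | N + 1, G, r, hs, gN => by
    obtain ⟨f, hf, hfN⟩ := exists_family_above N (G := fun n => G (n + 1)) (fun n => r (n + 1))
      (fun n hn => hs (n + 1) (Nat.succ_le_succ hn)) gN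
    refine ⟨fun n => Nat.casesOn n (r 0 (f 0)) f, fun n => ?_, hfN⟩
    cases n with
    | zero => rfl
    | succ n => exact hf n

/-- A compatible family above a given element of the bottom. -/
theorem exists_family {G : ℕ → Type u} (r : ∀ n, G (n + 1) → G n) (N : ℕ)
    (hr : ∀ n, N ≤ n → Function.Surjective (r n)) (p : ∀ n, G n → G 0) (hp0 : ∀ g, p 0 g = g)
    (hp : ∀ n g, p n (r n g) = p (n + 1) g) (g : G 0) (h : ∃ gN : G N, p N gN = g) :
    ∃ f : ∀ n, G n, (∀ n, r n (f (n + 1)) = f n) ∧ f 0 = g := by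
  obtain ⟨gN, hgN⟩ := h
  obtain ⟨f, hf, hfN⟩ := exists_family_above N r hr gN
  refine ⟨f, hf, ?_⟩
  have key : ∀ n, p n (f n) = f 0 := by
    intro n
    induction n with
    | zero => exact hp0 _
    | succ n ih => rw [← hp, hf, ih]
  rw [← key N, hfN, hgN]

end Abstract

section Tower

variable {X : Scheme.{u}} (T : X.Modules ⥤ X.Modules)

/-- Iterates of `T`, innermost first. -/
noncomputable def Tk : ℕ → (X.Modules ⥤ X.Modules)
  | 0 => 𝟭 _
  | k + 1 => T ⋙ Tk k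

theorem additive_Tk [T.Additive] : ∀ k, (Tk T k).Additive
  | 0 => inferInstanceAs (𝟭 X.Modules).Additive
  | k + 1 => haveI := additive_Tk k; inferInstanceAs (T ⋙ Tk T k).Additive

theorem preservesFiniteLimits_Tk [PreservesFiniteLimits T] : ∀ k, PreservesFiniteLimits (Tk T k)
  | 0 => inferInstanceAs (PreservesFiniteLimits (𝟭 X.Modules))
  | k + 1 =>
    haveI := preservesFiniteLimits_Tk k
    comp_preservesFiniteLimits T (Tk T k)

theorem preservesFiniteColimits_Tk [PreservesFiniteColimits T] : ∀ k, PreservesFiniteColimits (Tk T k)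
  | 0 => inferInstanceAs (PreservesFiniteColimits (𝟭 X.Modules))
  | k + 1 =>
    haveI := preservesFiniteColimits_Tk k
    comp_preservesFiniteColimits T (Tk T k)

theorem isCoh_Tk (hT : ∀ F : X.Modules, Coh.IsCoh F → Coh.IsCoh (T.obj F)) :
    ∀ (k : ℕ) {F : X.Modules}, Coh.IsCoh F → Coh.IsCoh ((Tk T k).obj F)
  | 0, _, h => h
  | k + 1, _, h => isCoh_Tk hT k (hT _ h)

theorem shortExact_Tk [T.Additive] [PreservesFiniteLimits T] [PreservesFiniteColimits T] (k : ℕ)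
    {S : ShortComplex X.Modules} (hS : S.ShortExact) :
    haveI := additive_Tk T k
    (S.map (Tk T k)).ShortExact := by
  haveI := additive_Tk T k
  haveI := preservesFiniteLimits_Tk T k
  haveI := preservesFiniteColimits_Tk T k
  exact hS.map_of_exact (Tk T k)

/-- Thickenings linked by truncation and by multiplication with a section of the twist. -/
structure Tower where
  Q : ℕ → X.Modules
  tr : ∀ n, Q (n + 1) ⟶ Q n
  σ : ∀ n, Q n ⟶ T.obj (Q (n + 1))
  to0 : ∀ n, Q n ⟶ Q 0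
  to0_zero : to0 0 = 𝟙 _
  tr_to0 : ∀ n, tr n ≫ to0 n = to0 (n + 1)
  comm : ∀ n, σ (n + 1) ≫ T.map (tr (n + 1)) = tr n ≫ σ n
  zero : ∀ n, σ n ≫ T.map (to0 (n + 1)) = 0
  shortExact : ∀ n, (ShortComplex.mk (σ n) (T.map (to0 (n + 1))) (zero n)).ShortExact
  epi_tr : ∀ n, Epi (tr n)

variable {T}

namespace Tower

variable (𝕋 : Tower T)

theorem trSeq_shortExact (n : ℕ) :
    (ShortComplex.mk (kernel.ι (𝕋.tr n)) (𝕋.tr n) (kernel.condition _)).ShortExact :=
  haveI := 𝕋.epi_tr n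
  { exact := ShortComplex.exact_of_f_is_kernel _ (kernelIsKernel (𝕋.tr n)) }

variable [T.Additive] [PreservesFiniteLimits T] [PreservesFiniteColimits T]

/-- The kernels of the truncations are twists of each other. -/
theorem nonempty_kernel_succ (n : ℕ) : Nonempty (kernel (𝕋.tr n) ≅ T.obj (kernel (𝕋.tr (n + 1)))) := by
  have hK := (𝕋.trSeq_shortExact (n + 1)).map_of_exact T
  haveI := hK.mono_f
  haveI : Mono (T.map (kernel.ι (𝕋.tr (n + 1)))) := hK.mono_f
  haveI : Mono (𝕋.σ n) := (𝕋.shortExact n).mono_f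
  haveI : Mono (𝕋.σ (n + 1)) := (𝕋.shortExact (n + 1)).mono_f
  have hz : T.map (kernel.ι (𝕋.tr (n + 1))) ≫ T.map (𝕋.to0 (n + 2)) = 0 := by
    rw [← 𝕋.tr_to0, ← T.map_comp, kernel.condition_assoc, zero_comp, T.map_zero]
  obtain ⟨x, hx⟩ : ∃ x, x ≫ 𝕋.σ (n + 1) = T.map (kernel.ι (𝕋.tr (n + 1))) :=
    ⟨(𝕋.shortExact (n + 1)).exact.lift _ hz, (𝕋.shortExact (n + 1)).exact.lift_f _ hz⟩
  have hxtr : x ≫ 𝕋.tr n = 0 := (cancel_mono (𝕋.σ n)).1 (by
    rw [Category.assoc, ← 𝕋.comm, ← Category.assoc, hx, ← T.map_comp, kernel.condition, T.map_zero, zero_comp])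
  have hy : (kernel.ι (𝕋.tr n) ≫ 𝕋.σ (n + 1)) ≫ T.map (𝕋.tr (n + 1)) = 0 := by
    rw [Category.assoc, 𝕋.comm, kernel.condition_assoc, zero_comp]
  obtain ⟨y, hy'⟩ : ∃ y, y ≫ T.map (kernel.ι (𝕋.tr (n + 1))) = kernel.ι (𝕋.tr n) ≫ 𝕋.σ (n + 1) :=
    ⟨hK.exact.lift _ hy, hK.exact.lift_f _ hy⟩
  refine ⟨⟨y, kernel.lift _ x hxtr, ?_, ?_⟩⟩
  · rw [← cancel_mono (kernel.ι (𝕋.tr n)), Category.assoc, kernel.lift_ι, Category.id_comp,
      ← cancel_mono (𝕋.σ (n + 1)), Category.assoc, hx, hy']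
  · rw [← cancel_mono (T.map (kernel.ι (𝕋.tr (n + 1)))), Category.assoc, hy', ← Category.assoc, kernel.lift_ι,
      hx, Category.id_comp]

theorem nonempty_kernel_zero : Nonempty (𝕋.Q 0 ≅ T.obj (kernel (𝕋.tr 0))) := by
  have hK := (𝕋.trSeq_shortExact 0).map_of_exact T
  haveI := hK.mono_f
  haveI : Mono (T.map (kernel.ι (𝕋.tr 0))) := hK.mono_f
  haveI : Mono (𝕋.σ 0) := (𝕋.shortExact 0).mono_f
  have h1 : 𝕋.to0 (0 + 1) = 𝕋.tr 0 := by rw [← 𝕋.tr_to0, 𝕋.to0_zero, Category.comp_id]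
  have h2 : 𝕋.σ 0 ≫ T.map (𝕋.tr 0) = 0 := h1 ▸ 𝕋.zero 0
  have hz : T.map (kernel.ι (𝕋.tr 0)) ≫ T.map (𝕋.to0 (0 + 1)) = 0 := by
    rw [h1, ← T.map_comp, kernel.condition, T.map_zero]
  obtain ⟨x, hx⟩ : ∃ x, x ≫ T.map (kernel.ι (𝕋.tr 0)) = 𝕋.σ 0 := ⟨hK.exact.lift _ h2, hK.exact.lift_f _ h2⟩
  obtain ⟨y, hy⟩ : ∃ y, y ≫ 𝕋.σ 0 = T.map (kernel.ι (𝕋.tr 0)) :=
    ⟨(𝕋.shortExact 0).exact.lift _ hz, (𝕋.shortExact 0).exact.lift_f _ hz⟩
  refine ⟨⟨x, y, ?_, ?_⟩⟩
  · rw [← cancel_mono (𝕋.σ 0), Category.assoc, hy, hx, Category.id_comp]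
  · rw [← cancel_mono (T.map (kernel.ι (𝕋.tr 0))), Category.assoc, hx, hy, Category.id_comp]

/-- The kernel of the `n`-th truncation is the bottom twisted down `n + 1` times. -/
theorem nonempty_Tk_kernel : ∀ n, Nonempty (𝕋.Q 0 ≅ (Tk T (n + 1)).obj (kernel (𝕋.tr n)))
  | 0 => 𝕋.nonempty_kernel_zero
  | n + 1 => by
    obtain ⟨e⟩ := nonempty_Tk_kernel n
    obtain ⟨c⟩ := 𝕋.nonempty_kernel_succ n
    exact ⟨e ≪≫ (Tk T (n + 1)).mapIso c⟩

variable (A : Type u) [CommRing A] [IsNoetherianRing A] [X.Over (Spec (CommRingCat.of A))]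
  [IsProper (X ↘ Spec (CommRingCat.of A))]

theorem Hm_smul {F G : X.Modules} (f : F ⟶ G) (p : ℕ) (a : A) (x : Coh.HH X F p) :
    LeadFF.Hm f p (a • x) = a • LeadFF.Hm f p x := by
  rw [← LeadFF.Hm_smulMod (A := A) (M := F) p a x, ← LeadFF.Hm_comp, ← LeadFF.smulMod_natural, LeadFF.Hm_comp,
    LeadFF.Hm_smulMod]

include A in
/-- Every global section of a high twist of the bottom extends to the whole tower. -/
theorem exists_lift (hT : ∀ F : X.Modules, Coh.IsCoh F → Coh.IsCoh (T.obj F)) (hQ : ∀ n, Coh.IsCoh (𝕋.Q n))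
    (P1 : ∃ k₁, ∀ k, k₁ ≤ k → Subsingleton (Coh.HH X ((Tk T k).obj (𝕋.Q 0)) 1))
    (P2 : ∀ k, ∃ N, ∀ n, N ≤ n → Subsingleton (Coh.HH X ((Tk T k).obj (kernel (𝕋.tr n))) 1)) :
    ∃ k₂, ∀ k, k₂ ≤ k → ∀ g : Coh.HH X ((Tk T k).obj (𝕋.Q 0)) 0,
      ∃ f : ∀ n, Coh.HH X ((Tk T k).obj (𝕋.Q n)) 0,
        (∀ n, LeadFF.Hm ((Tk T k).map (𝕋.tr n)) 0 (f (n + 1)) = f n) ∧ f 0 = g := by
  haveI := fun k => additive_Tk T k
  obtain ⟨k₁, h1⟩ := P1
  obtain ⟨N, hN⟩ := P2 k₁
  let H : ℕ → ℕ → Type u := fun n d => Coh.HH X ((Tk T (k₁ + d)).obj (𝕋.Q n)) 1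
  let σ : ∀ n d, H n d →+ H (n + 1) (d + 1) := fun n d => LeadFF.Hm ((Tk T (k₁ + d)).map (𝕋.σ n)) 1
  let τ : ∀ n d, H (n + 1) d →+ H n d := fun n d => LeadFF.Hm ((Tk T (k₁ + d)).map (𝕋.tr n)) 1
  have hS := fun n d => shortExact_Tk T (k₁ + d) (𝕋.shortExact n)
  let δ : ∀ n d, Coh.HH X ((Tk T (k₁ + d)).obj (T.obj (𝕋.Q 0))) 0 → H n d := fun n d h => LeadFF.dl (hS n d) 0 h
  have comm : ∀ n d (x : H (n + 1) d), σ n d (τ n d x) = τ (n + 1) (d + 1) (σ (n + 1) d x) := fun n d x => by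
    show LeadFF.Hm _ 1 (LeadFF.Hm _ 1 x) = LeadFF.Hm ((Tk T (k₁ + d)).map (T.map (𝕋.tr (n + 1)))) 1 (LeadFF.Hm _ 1 x)
    rw [← LeadFF.Hm_comp, ← LeadFF.Hm_comp, ← Functor.map_comp, ← Functor.map_comp, 𝕋.comm]
  have ex : ∀ n d (x : H n d), σ n d x = 0 → ∃ h, δ n d h = x := fun n d x hx =>
    Ext.covariant_sequence_exact₁ (hS := H10Coh.shortExact_sh (hS n d)) _ x hx rfl
  have exδ : ∀ n d h, σ n d (δ n d h) = 0 := fun n d h => LeadFF.Hm_dl (hS n d) 0 h
  have nat : ∀ n d h, τ n d (δ (n + 1) d h) = δ n d h := fun n d h => by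
    let φ : (ShortComplex.mk (𝕋.σ (n + 1)) (T.map (𝕋.to0 (n + 1 + 1))) (𝕋.zero (n + 1))).map (Tk T (k₁ + d)) ⟶
        (ShortComplex.mk (𝕋.σ n) (T.map (𝕋.to0 (n + 1))) (𝕋.zero n)).map (Tk T (k₁ + d)) :=
      (Tk T (k₁ + d)).mapShortComplex.map (ShortComplex.homMk (𝕋.tr n) (T.map (𝕋.tr (n + 1))) (𝟙 _)
        (𝕋.comm n).symm (by
          show T.map (𝕋.tr (n + 1)) ≫ T.map (𝕋.to0 (n + 1)) = T.map (𝕋.to0 (n + 1 + 1)) ≫ 𝟙 _
          rw [← T.map_comp, 𝕋.tr_to0, Category.comp_id]))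
    have h' := LeadFF.dl_natural (hS (n + 1) d) (hS n d) φ 0 h
    show LeadFF.Hm φ.τ₁ 1 _ = _
    refine h'.symm.trans (congrArg (LeadFF.dl (hS n d) 0) ?_)
    show LeadFF.Hm ((Tk T (k₁ + d)).map (𝟙 _)) 0 h = h
    rw [CategoryTheory.Functor.map_id, LeadFF.Hm_id]
  have surj : ∀ n d, Function.Surjective (σ n d) := fun n d y => by
    have hsub : Subsingleton (Coh.HH X ((Tk T (k₁ + d)).obj (T.obj (𝕋.Q 0))) 1) := h1 (k₁ + d + 1) (by omega)
    exact LeadFF.exists_Hm_f (hS n d) 1 y (hsub.elim _ _)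
  have inj : ∀ n, N ≤ n → Function.Injective (τ n 0) := fun n hn => by
    refine (injective_iff_map_eq_zero _).2 fun x hx => ?_
    obtain ⟨z, hz⟩ := LeadFF.exists_Hm_f (shortExact_Tk T (k₁ + 0) (𝕋.trSeq_shortExact n)) 1 x hx
    exact hz.symm.trans ((congrArg _ ((hN n hn).elim z 0)).trans (map_zero _))
  haveI : Module.Finite A (H N 0) := H10Coh.finite_HH_proper A X _ (isCoh_Tk T hT _ (hQ N)) 1
  haveI : _root_.IsNoetherian A (H N 0) := isNoetherian_of_isNoetherianRing_of_finite A _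
  have hsmul : ∀ j n d (a : A) (x : H n d), Killed σ j n d x → Killed σ j n d (a • x) := by
    intro j
    induction j with
    | zero => exact fun n d a x h => show a • x = 0 from (show x = 0 from h).symm ▸ smul_zero a
    | succ j ih =>
      intro n d a x h
      show Killed σ j (n + 1) (d + 1) (σ n d (a • x))
      rw [show σ n d (a • x) = a • σ n d x from Hm_smul A _ 1 a x]
      exact ih _ _ a _ h
  have hadd : ∀ j n d (x y : H n d), Killed σ j n d x → Killed σ j n d y → Killed σ j n d (x + y) := by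
    intro j
    induction j with
    | zero => exact fun n d x y hx hy => show x + y = 0 by rw [show x = 0 from hx, show y = 0 from hy, add_zero]
    | succ j ih =>
      intro n d x y hx hy
      show Killed σ j (n + 1) (d + 1) (σ n d (x + y))
      rw [map_add]
      exact ih _ _ _ _ hx hy
  let K : ℕ →o Submodule A (H N 0) :=
    ⟨fun j =>
      { carrier := {x | Killed σ j N 0 x}
        add_mem' := fun hx hy => hadd j _ _ _ _ hx hy
        zero_mem' := killed_zero j _ _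
        smul_mem' := fun a _ hx => hsmul j _ _ a _ hx },
      fun _ _ hij _ hx => killed_mono hij hx⟩
  obtain ⟨D, hD⟩ := monotone_stabilizes_iff_noetherian.2 inferInstance K
  have stab : ∀ j x, Killed σ j N 0 x → Killed σ D N 0 x := fun j x hx => by
    have hle : K j ≤ K D := (K.2 (le_max_left j D)).trans (hD _ (le_max_right j D)).ge
    exact hle hx
  have hδ := exists_delta_vanish τ comm δ ex exδ nat surj N inj D stab
  refine ⟨k₁ + D + 1, fun k hk => ?_⟩
  obtain ⟨d, hd, rfl⟩ : ∃ d, D ≤ d ∧ k = k₁ + d + 1 := ⟨k - k₁ - 1, by omega, by omega⟩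
  intro g
  have onto : ∀ n, ∃ f : Coh.HH X ((Tk T (k₁ + d + 1)).obj (𝕋.Q (n + 1))) 0,
      LeadFF.Hm ((Tk T (k₁ + d + 1)).map (𝕋.to0 (n + 1))) 0 f = g := fun n =>
    LeadFF.exists_Hm_g (hS n d) 0 g (hδ d hd n g)
  obtain ⟨M, hM⟩ := P2 (k₁ + d + 1)
  refine exists_family (fun n => LeadFF.Hm ((Tk T (k₁ + d + 1)).map (𝕋.tr n)) 0) (M + 1) (fun n hn y => ?_)
    (fun n => LeadFF.Hm ((Tk T (k₁ + d + 1)).map (𝕋.to0 n)) 0) (fun x => ?_) (fun n x => ?_) g (onto M)
  · exact LeadFF.exists_Hm_g (shortExact_Tk T (k₁ + d + 1) (𝕋.trSeq_shortExact n)) 0 y ((hM n (by omega)).elim _ _)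
  · rw [𝕋.to0_zero, CategoryTheory.Functor.map_id, LeadFF.Hm_id]
  · rw [← LeadFF.Hm_comp, ← Functor.map_comp, 𝕋.tr_to0]

end Tower

end Tower

end Groth.Agent.H3Lef
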